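import Groth.Agent.Lib.QuotSt.CatQuot
import Groth.Agent.Lib.AlgStack.OfPsh
import Groth.Agent.Lib.AlgStack.Space
import Groth.Agent.Lib.AlgSpace.Local
import Groth.Prelude.Def_StCoarse

/-!
# Base change of the map from a quotient stack to a scheme
-/

set_option autoImplicit false
set_option backward.isDefEq.respectTransparency false
set_option backward.isDefEq.respectTransparency.types false

universe u

open CategoryTheory CategoryTheory.Limits MonoidalCategory CartesianMonoidalCategory MonObj AlgebraicGeometry Opposite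

noncomputable section

namespace Groth.Agent.Lib.ConstQuot.BaseChange

open AlgSt (QuotObj QuotSt quotMap ofSp ofSpMap fibSec)
open AlgSp (Sp yon IsAlgSpace)
open FibCat (fp fpFst fpLift)
open Groth.Agent.Lib.QuotSt

variable {S : Scheme.{u}} {K : Precoverage Scheme.{u}} [K.HasIsos] [K.IsStableUnderBaseChange]
  {G X Y Y' X' : Over S} [GrpObj G] {aX : AlgGrp.Action G X} {q : X ⟶ Y}
  (π : QuotSt K G aX ⥤ᵇ AlgSt.ofSch Y)
  (hπ : BasedFunctor.comp (quotMap K G aX) π = ofSpMap ((yon S).map q))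
  (g : Y' ⟶ Y) {p1 : X' ⟶ X} {p2 : X' ⟶ Y'} (sq : IsPullback p1 p2 q g)

theorem map_id_op (F : Sp S) {W : Over S} (r : F.obj.obj (op W)) : F.obj.map (𝟙 W).op r = r := by simp

/-- The map from the pullback to the base change of the stack. -/
def emb : AlgSt.ofSch X' ⥤ᵇ fp (ofSpMap ((yon S).map g)) π :=
  fpLift (ofSpMap ((yon S).map p2)) (BasedFunctor.comp (ofSpMap ((yon S).map p1)) (quotMap K G aX))
    (eqToIso (by
      show _ = BasedFunctor.comp (ofSpMap ((yon S).map p1)) (BasedFunctor.comp (quotMap K G aX) π)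
      rw [hπ]
      change ofSpMap ((yon S).map p2 ≫ (yon S).map g) = ofSpMap ((yon S).map p1 ≫ (yon S).map q)
      rw [← Functor.map_comp, ← Functor.map_comp, sq.w]))

theorem emb_fpFst : BasedFunctor.comp (emb π hπ g sq) (fpFst (ofSpMap ((yon S).map g)) π) =
    ofSpMap ((yon S).map p2) := rfl

/-- The morphism to an object of the base change from the point of the pullback on its torsor. -/
theorem exists_hom (z : (fp (ofSpMap ((yon S).map g)) π).obj) :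
    ∃ (P : Over S) (x : P ⟶ X') (v : P ⟶ (fp (ofSpMap ((yon S).map g)) π).p.obj z)
      (k : (emb π hπ g sq).obj ⟨P, ⟨x⟩⟩ ⟶ z), (fp (ofSpMap ((yon S).map g)) π).p.map k = v ∧
      (K ≤ Scheme.fppfPrecoverage →
        Sieve.generate (Presieve.singleton v) ∈ AlgSp.J S ((fp (ofSpMap ((yon S).map g)) π).p.obj z)) := by
  obtain ⟨⟨⟨T, ⟨y⟩⟩, A, i⟩, hz⟩ := z
  have hi : (AlgSt.ofSch Y).p.IsHomLift (𝟙 T) i.hom := hz
  have hAT : A.base = T := (π.w_obj A).symm.trans (IsHomLift.codomain_eq (AlgSt.ofSch Y).p (𝟙 T) i.hom)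
  subst hAT
  -- the sections of the two sides agree
  have hsec : res (π.obj A) (π.w_obj A) = ⟨y ≫ g⟩ := by
    have h1 := map_res i.hom (rfl : ((ofSpMap ((yon S).map g)).obj ⟨A.base, ⟨y⟩⟩).base = A.base)
      (π.w_obj A) (𝟙 _) (IsHomLift.fac' (AlgSt.ofSch Y).p (𝟙 A.base) i.hom)
    exact (map_id_op _ _).symm.trans (h1.trans (res_rfl _))
  have hm : A.π ≫ y ≫ g = A.φ ≫ q := by
    let m : trivObj K aX A.φ ⟶ A := ofPoint A.φ A.π (𝟙 A.P) (Category.id_comp _) (Category.id_comp _)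
    have h1 := map_res (π.map m) (π.w_obj _) (π.w_obj A) A.π (CategoryTheory.Functor.congr_hom π.w m)
    have hobj : (BasedFunctor.comp (quotMap K G aX) π).toFunctor.obj ⟨A.P, ⟨A.φ⟩⟩ =
        (ofSpMap ((yon S).map q)).obj ⟨A.P, ⟨A.φ⟩⟩ := by rw [hπ]
    rw [hsec] at h1
    exact congrArg ULift.down (h1.trans ((res_congr hobj _ rfl).trans (res_rfl _)))
  let x : A.P ⟶ X' := sq.lift A.φ (A.π ≫ y) (by rw [Category.assoc, hm])
  let k₂ : trivObj K aX (x ≫ p1) ⟶ A :=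
    ofPoint (x ≫ p1) A.π (𝟙 A.P) (Category.id_comp _) (by rw [Category.id_comp, sq.lift_fst])
  refine ⟨A.P, x, A.π, ObjectProperty.homMk
    { fst := ⟨A.π, congrArg ULift.up (sq.lift_snd A.φ (A.π ≫ y) _).symm⟩
      snd := k₂
      w := Stk.EltObj.hom_ext ?_ }, rfl, fun hK => generate_π_mem hK A⟩
  have e : (π.map k₂).hom = eqToHom (π.w_obj (trivObj K aX (x ≫ p1))) ≫ A.π ≫ eqToHom (π.w_obj A).symm :=
    CategoryTheory.Functor.congr_hom π.w k₂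
  have e' : i.hom.hom = eqToHom rfl ≫ 𝟙 A.base ≫ eqToHom (π.w_obj A).symm :=
    IsHomLift.fac' (AlgSt.ofSch Y).p (𝟙 A.base) i.hom
  set z₀ := (emb π hπ g sq).obj ⟨A.P, ⟨x⟩⟩
  have e'' : z₀.obj.iso.hom.hom = eqToHom rfl ≫ 𝟙 A.P ≫ eqToHom (π.w_obj (trivObj K aX (x ≫ p1))).symm :=
    have : (AlgSt.ofSch Y).p.IsHomLift (𝟙 A.P) z₀.obj.iso.hom := z₀.property
    IsHomLift.fac' (AlgSt.ofSch Y).p (𝟙 A.P) z₀.obj.iso.hom
  change A.π ≫ i.hom.hom = z₀.obj.iso.hom.hom ≫ (π.map k₂).hom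
  rw [e', e'', e]
  simp

/-- Functors out of the base change are determined on the pullback. -/
theorem functor_ext_emb (hK : K ≤ Scheme.fppfPrecoverage) {N : Sp S}
    {φ φ' : fp (ofSpMap ((yon S).map g)) π ⥤ᵇ ofSp N}
    (h : BasedFunctor.comp (emb π hπ g sq) φ = BasedFunctor.comp (emb π hπ g sq) φ') : φ = φ' := by
  refine QuotSt.functor_ext fun z => ?_
  refine (eq_mk_res _ (φ.w_obj z)).trans (Eq.trans (congrArg (Stk.EltObj.mk (P := N.obj) _) ?_)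
    (eq_mk_res _ (φ'.w_obj z)).symm)
  obtain ⟨P, x, v, k, hk, hcov⟩ := exists_hom π hπ g sq z
  have hN : Presieve.IsSheaf (AlgSp.J S) N.obj := (isSheaf_iff_isSheaf_of_type _ _).1 N.property
  refine ((Presieve.isSheafFor_iff_generate _).2 (hN _ (hcov hK))).isSeparatedFor.ext fun W w hw => ?_
  cases hw
  subst hk
  have h1 := map_res (φ.map k) (φ.w_obj _) (φ.w_obj z) _ (CategoryTheory.Functor.congr_hom φ.w k)
  have h2 := map_res (φ'.map k) (φ'.w_obj _) (φ'.w_obj z) _ (CategoryTheory.Functor.congr_hom φ'.w k)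
  have hobj : (BasedFunctor.comp (emb π hπ g sq) φ).toFunctor.obj ⟨P, ⟨x⟩⟩ =
      (BasedFunctor.comp (emb π hπ g sq) φ').toFunctor.obj ⟨P, ⟨x⟩⟩ := by rw [h]
  exact h1.trans ((res_congr hobj _ _).trans h2.symm)

/-- A morphism of objects of the base change over the identity, from one of their torsors. -/
theorem exists_vert_hom {T : Over S} {y y' : T ⟶ Y'} {A B : QuotObj K G aX}
    (i : (ofSpMap ((yon S).map g)).obj ⟨T, ⟨y⟩⟩ ≅ π.obj A)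
    (j : (ofSpMap ((yon S).map g)).obj ⟨T, ⟨y'⟩⟩ ≅ π.obj B)
    (hi : FibCat.fpProp (ofSpMap ((yon S).map g)) π { fst := ⟨T, ⟨y⟩⟩, snd := A, iso := i })
    (hj : FibCat.fpProp (ofSpMap ((yon S).map g)) π { fst := ⟨T, ⟨y'⟩⟩, snd := B, iso := j })
    (hy : y = y') (e : A ⟶ B) (he : (QuotSt K G aX).p.IsHomLift (𝟙 T) e) :
    ∃ k : (⟨_, hi⟩ : (fp (ofSpMap ((yon S).map g)) π).obj) ⟶ ⟨_, hj⟩,
      (fp (ofSpMap ((yon S).map g)) π).p.map k = 𝟙 T := by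
  subst hy
  have hw : (ofSpMap ((yon S).map g)).map (𝟙 _) ≫ j.hom = i.hom ≫ π.map e := by
    refine Stk.EltObj.hom_ext ?_
    have h1 : (AlgSt.ofSch Y).p.IsHomLift (𝟙 T) i.hom := hi
    have h2 : (AlgSt.ofSch Y).p.IsHomLift (𝟙 T) j.hom := hj
    have h3 : (AlgSt.ofSch Y).p.IsHomLift (𝟙 T) (π.map e) := BasedFunctor.preserves_isHomLift π _ _
    have h4 : (AlgSt.ofSch Y).p.IsHomLift (𝟙 T) (i.hom ≫ π.map e) := inferInstance
    exact ((congrArg (fun m => Stk.EltObj.Hom.hom m) (Category.id_comp j.hom :)).trans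
      (IsHomLift.fac' (AlgSt.ofSch Y).p (𝟙 T) j.hom)).trans
        (IsHomLift.fac' (AlgSt.ofSch Y).p (𝟙 T) (i.hom ≫ π.map e)).symm
  exact ⟨ObjectProperty.homMk { fst := 𝟙 _, snd := e, w := hw }, rfl⟩

/-- The morphism between two points of the pullback over the same torsor. -/
theorem exists_shift {T : Over S} (x₁ x₂ : T ⟶ X') (h₃ : x₁ ≫ p2 = x₂ ≫ p2)
    (k₂ : trivObj K aX (x₁ ≫ p1) ⟶ trivObj K aX (x₂ ≫ p1))
    (hk₂ : (QuotSt K G aX).p.IsHomLift (𝟙 T) k₂) :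
    ∃ k : (emb π hπ g sq).obj ⟨T, ⟨x₁⟩⟩ ⟶ (emb π hπ g sq).obj ⟨T, ⟨x₂⟩⟩,
      (fp (ofSpMap ((yon S).map g)) π).p.map k = 𝟙 T :=
  exists_vert_hom π g ((emb π hπ g sq).obj ⟨T, ⟨x₁⟩⟩).obj.iso ((emb π hπ g sq).obj ⟨T, ⟨x₂⟩⟩).obj.iso
    ((emb π hπ g sq).obj ⟨T, ⟨x₁⟩⟩).property ((emb π hπ g sq).obj ⟨T, ⟨x₂⟩⟩).property h₃ k₂ hk₂

/-- The value of a functor on a point of the pullback. -/
theorem res_emb {N : Sp S} (φ : fp (ofSpMap ((yon S).map g)) π ⥤ᵇ ofSp N)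
    (ψ : (yon S).obj X' ⟶ N) (hψ : BasedFunctor.comp (emb π hπ g sq) φ = ofSpMap ψ)
    {T : Over S} (x : T ⟶ X') :
    res (φ.obj ((emb π hπ g sq).obj ⟨T, ⟨x⟩⟩)) (φ.w_obj _) = fx ψ x :=
  (res_congr (show (BasedFunctor.comp (emb π hπ g sq) φ).toFunctor.obj ⟨T, ⟨x⟩⟩ =
    (ofSpMap ψ).obj ⟨T, ⟨x⟩⟩ by rw [hψ]) _ rfl).trans (res_rfl _)

/-- Functors out of the base change are invariant on the pullback. -/
theorem invariant_emb {N : Sp S} (φ : fp (ofSpMap ((yon S).map g)) π ⥤ᵇ ofSp N)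
    (ψ : (yon S).obj X' ⟶ N) (hψ : BasedFunctor.comp (emb π hπ g sq) φ = ofSpMap ψ)
    (T : Over S) (h : T ⟶ G ⊗ X) (x₁ x₂ : T ⟶ X') (h₁ : x₁ ≫ p1 = h ≫ aX.act)
    (h₂ : x₂ ≫ p1 = h ≫ snd G X) (h₃ : x₁ ≫ p2 = x₂ ≫ p2) :
    (yon S).map x₁ ≫ ψ = (yon S).map x₂ ≫ ψ := by
  let k₂ : trivObj K aX (x₁ ≫ p1) ⟶ trivObj K aX (x₂ ≫ p1) :=
    ofPoint (A := trivObj K aX (x₂ ≫ p1)) (x₁ ≫ p1) (𝟙 T) (lift (h ≫ fst G X) (𝟙 T)) (lift_snd _ _) (by
      change lift _ _ ≫ (G ◁ (x₂ ≫ p1)) ≫ aX.act = _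
      rw [lift_whiskerLeft_assoc, Category.id_comp, h₂, ← comp_lift, lift_fst_snd, Category.comp_id, h₁])
  obtain ⟨k, hk⟩ := exists_shift π hπ g sq x₁ x₂ h₃ k₂ (IsHomLift.map (QuotSt K G aX).p k₂)
  have hres := map_res (φ.map k) (φ.w_obj _) (φ.w_obj _) (𝟙 T)
    ((CategoryTheory.Functor.congr_hom φ.w k).trans (by rw [← hk]))
  have hfx : fx ψ x₁ = fx ψ x₂ :=
    (res_emb π hπ g sq φ ψ hψ x₁).symm.trans
      ((hres.symm.trans (map_id_op _ _)).trans (res_emb π hπ g sq φ ψ hψ x₂))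
  refine ObjectProperty.hom_ext _ ?_
  ext W ⟨w⟩
  change fx ψ (w ≫ x₁) = fx ψ (w ≫ x₂)
  rw [← map_fx, ← map_fx, hfx]

theorem emb_comp_fst {N : Sp S} (χ : (yon S).obj Y' ⟶ N) : BasedFunctor.comp (emb π hπ g sq)
    (BasedFunctor.comp (fpFst (ofSpMap ((yon S).map g)) π) (ofSpMap χ)) =
      ofSpMap ((yon S).map p2 ≫ χ) := rfl

include sq in
/-- The base change is a categorical moduli space if the pullback has the quotient property. -/
theorem isCatModuli_fpFst (hK : K ≤ Scheme.fppfPrecoverage)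
    (hπ : BasedFunctor.comp (quotMap K G aX) π = ofSpMap ((yon S).map q))
    (hcat : ∀ N : Sp S, IsAlgSpace N → ∀ ψ : (yon S).obj X' ⟶ N,
      (∀ (T : Over S) (h : T ⟶ G ⊗ X) (x₁ x₂ : T ⟶ X'), x₁ ≫ p1 = h ≫ aX.act →
        x₂ ≫ p1 = h ≫ snd G X → x₁ ≫ p2 = x₂ ≫ p2 → (yon S).map x₁ ≫ ψ = (yon S).map x₂ ≫ ψ) →
      ∃! χ : (yon S).obj Y' ⟶ N, (yon S).map p2 ≫ χ = ψ) :
    AlgSt.IsCatModuli (fpFst (ofSpMap ((yon S).map g)) π) := by
  refine ⟨IsAlgSpace.yon_obj Y', fun N hN φ => ?_⟩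
  let ψ : (yon S).obj X' ⟶ N := Lib.AlgStack.Space.spHom (BasedFunctor.comp (emb π hπ g sq) φ)
  have hψ : BasedFunctor.comp (emb π hπ g sq) φ = ofSpMap ψ :=
    functor_eq_of_iso (Lib.AlgStack.OfPsh.isoOfPshMap _)
  obtain ⟨χ, hχ, hχu⟩ := hcat N hN ψ (invariant_emb π hπ g sq φ ψ hψ)
  refine ⟨χ, ⟨eqToIso (functor_ext_emb π hπ g sq hK ?_)⟩, fun χ' h' => ?_⟩
  · rw [emb_comp_fst, hχ, hψ]
  · obtain ⟨i⟩ := h'
    exact hχu χ' (map_eq_of_ofSpMap ((emb_comp_fst π hπ g sq χ').symm.trans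
      ((congrArg (BasedFunctor.comp _) (functor_eq_of_iso i)).trans hψ)))

variable {π g}

/-- A morphism of objects of the base change over the identity. -/
theorem exists_vert {T : Over S} {y : T ⟶ Y'} {A B : QuotObj K G aX}
    (i : (ofSpMap ((yon S).map g)).obj ⟨T, ⟨y⟩⟩ ≅ π.obj A)
    (j : (ofSpMap ((yon S).map g)).obj ⟨T, ⟨y⟩⟩ ≅ π.obj B)
    (hi : FibCat.fpProp (ofSpMap ((yon S).map g)) π { fst := ⟨T, ⟨y⟩⟩, snd := A, iso := i })
    (hj : FibCat.fpProp (ofSpMap ((yon S).map g)) π { fst := ⟨T, ⟨y⟩⟩, snd := B, iso := j })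
    (e : A ≅ B) (he : (QuotSt K G aX).p.IsHomLift (𝟙 T) e.hom) :
    ∃ k : (⟨_, hi⟩ : (fp (ofSpMap ((yon S).map g)) π).obj) ≅ ⟨_, hj⟩,
      (fp (ofSpMap ((yon S).map g)) π).p.IsHomLift (𝟙 T) k.hom ∧
        (fp (ofSpMap ((yon S).map g)) π).p.IsHomLift (𝟙 T) k.inv := by
  have hw : (ofSpMap ((yon S).map g)).map (𝟙 _) ≫ j.hom = i.hom ≫ π.map e.hom := by
    refine Stk.EltObj.hom_ext ?_
    have h1 : (AlgSt.ofSch Y).p.IsHomLift (𝟙 T) i.hom := hi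
    have h2 : (AlgSt.ofSch Y).p.IsHomLift (𝟙 T) j.hom := hj
    have h3 : (AlgSt.ofSch Y).p.IsHomLift (𝟙 T) (π.map e.hom) := BasedFunctor.preserves_isHomLift π _ _
    have h4 : (AlgSt.ofSch Y).p.IsHomLift (𝟙 T) (i.hom ≫ π.map e.hom) := inferInstance
    exact ((congrArg (fun m => Stk.EltObj.Hom.hom m) (Category.id_comp j.hom :)).trans
      (IsHomLift.fac' (AlgSt.ofSch Y).p (𝟙 T) j.hom)).trans
        (IsHomLift.fac' (AlgSt.ofSch Y).p (𝟙 T) (i.hom ≫ π.map e.hom)).symm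
  let k : (⟨_, hi⟩ : (fp (ofSpMap ((yon S).map g)) π).obj) ≅ ⟨_, hj⟩ :=
    (FibCat.fpProp _ _).isoMk (CategoricalPullback.mkIso (Iso.refl _) e (by simpa using hw))
  have hk : (fp (ofSpMap ((yon S).map g)) π).p.IsHomLift (𝟙 T) k.hom :=
    IsHomLift.map (fp (ofSpMap ((yon S).map g)) π).p k.hom
  exact ⟨k, hk, IsHomLift.lift_id_inv _ _ k⟩

include sq in
/-- The base change is bijective on geometric points. -/
theorem geomPtBij_fpFst {K : Precoverage Scheme.{u}} [K.HasIsos] [K.IsStableUnderBaseChange]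
    {π : QuotSt K G aX ⥤ᵇ AlgSt.ofSch Y}
    (hπ : BasedFunctor.comp (quotMap K G aX) π = ofSpMap ((yon S).map q))
    (hsurj : ∀ (Ω : Type u) [Field Ω] [IsAlgClosed Ω] (t : Spec (CommRingCat.of Ω) ⟶ S)
      (y : Over.mk t ⟶ Y), ∃ x : Over.mk t ⟶ X, x ≫ q = y)
    (hπb : AlgSt.GeomPtBij π) : AlgSt.GeomPtBij (fpFst (ofSpMap ((yon S).map g)) π) := by
  intro Ω _ _ t
  refine ⟨fun m => ?_, fun a b hab => ?_⟩
  · obtain ⟨x, hx⟩ := hsurj Ω t (m.down ≫ g)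
    refine ⟨⟨(emb π hπ g sq).obj ⟨Over.mk t, ⟨sq.lift x m.down hx⟩⟩, rfl⟩, ?_⟩
    change ((yon S).obj Y').obj.map (eqToHom rfl).op ⟨sq.lift x m.down hx ≫ p2⟩ = m
    simp
    rfl
  · obtain ⟨⟨⟨⟨T, ⟨y⟩⟩, A, i⟩, hz⟩, ha⟩ := a
    obtain ⟨⟨⟨⟨T', ⟨y'⟩⟩, B, j⟩, hz'⟩, hb⟩ := b
    change T = Over.mk t at ha
    change T' = Over.mk t at hb
    subst ha hb
    obtain rfl : y = y' := by
      have h' : ((yon S).obj Y').obj.map (𝟙 (op (Over.mk t))) ⟨y⟩ =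
          ((yon S).obj Y').obj.map (𝟙 (op (Over.mk t))) ⟨y'⟩ := hab
      simpa using congrArg ULift.down h'
    have hi : (AlgSt.ofSch Y).p.IsHomLift (𝟙 (Over.mk t)) i.hom := hz
    have hj : (AlgSt.ofSch Y).p.IsHomLift (𝟙 (Over.mk t)) j.hom := hz'
    have hA : A.base = Over.mk t :=
      (π.w_obj A).symm.trans (IsHomLift.codomain_eq (AlgSt.ofSch Y).p (𝟙 _) i.hom)
    have hB : B.base = Over.mk t :=
      (π.w_obj B).symm.trans (IsHomLift.codomain_eq (AlgSt.ofSch Y).p (𝟙 _) j.hom)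
    have h1 := map_res i.hom rfl ((π.w_obj A).trans hA) (𝟙 _)
      (IsHomLift.fac' (AlgSt.ofSch Y).p (𝟙 (Over.mk t)) i.hom)
    have h2 := map_res j.hom rfl ((π.w_obj B).trans hB) (𝟙 _)
      (IsHomLift.fac' (AlgSt.ofSch Y).p (𝟙 (Over.mk t)) j.hom)
    obtain ⟨e⟩ := (hπb Ω t).2 ⟨A, hA⟩ ⟨B, hB⟩ (by
      simp only [op_id, CategoryTheory.Functor.map_id] at h1 h2
      exact h1.trans h2.symm)
    have he : (QuotSt K G aX).p.IsHomLift (𝟙 (Over.mk t)) e.hom.1 := e.hom.2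
    have : IsIso e.hom.1 := ⟨e.inv.1, congrArg Subtype.val e.hom_inv_id, congrArg Subtype.val e.inv_hom_id⟩
    obtain ⟨k, hk, hk'⟩ := exists_vert i j hz hz' (asIso e.hom.1) he
    exact ⟨⟨⟨k.hom, hk⟩, ⟨k.inv, hk'⟩, Functor.Fiber.hom_ext k.hom_inv_id,
      Functor.Fiber.hom_ext k.inv_hom_id⟩⟩

end Groth.Agent.Lib.ConstQuot.BaseChange
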