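import Groth.Agent.Lib.EtShriek50.Piece
import Mathlib.AlgebraicGeometry.Morphisms.Finite

/-!
# Sections of étale schemes over finite schemes at a geometric point of the base
-/

set_option autoImplicit false

universe u

open CategoryTheory CategoryTheory.Limits AlgebraicGeometry Opposite

noncomputable section

namespace Groth.Agent.Lib.ConstQuot

open Groth.Agent.Lib.EtSite Groth.Agent.Lib.EtSite.Basic

variable {Ω : Type u} [Field Ω] [IsAlgClosed Ω]

/-- A family of geometric points of an étale `X`-scheme over the points above `η` extends to a section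
over an étale neighbourhood of `η`, for `X ⟶ Y` finite. -/
theorem exists_section {X Y P : Scheme.{u}} (f : X ⟶ Y) [IsFinite f] (π : P ⟶ X) [Etale π]
    (η : Spec (CommRingCat.of Ω) ⟶ Y)
    (p : ∀ ξ : Spec (CommRingCat.of Ω) ⟶ X, ξ ≫ f = η → (Spec (CommRingCat.of Ω) ⟶ P))
    (hp : ∀ ξ h, p ξ h ≫ π = ξ) :
    ∃ (T : Scheme.{u}) (t : T ⟶ Y) (p' : Spec (CommRingCat.of Ω) ⟶ T) (s : pullback t f ⟶ P),
      Etale t ∧ p' ≫ t = η ∧ s ≫ π = pullback.snd t f ∧
      ∀ l : Spec (CommRingCat.of Ω) ⟶ pullback t f, l ≫ pullback.fst t f = p' →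
        ∃ h, l ≫ s = p (l ≫ pullback.snd t f) h := by
  classical
  let top := EtCoh.top Y
  let pp : (Scheme.pointSmallEtale η).fiber.obj top := mkFiber η top η (Category.comp_id _)
  let ι := {x : Spec (CommRingCat.of Ω) ⟶ X // x ≫ f = η}
  let U : X.Etale := MorphismProperty.Over.mk ⊤ π (show Etale π from inferInstance)
  let g : U ⟶ (EtCoh.bc f).obj top :=
    MorphismProperty.Over.homMk (pullback.lift (π ≫ f) π (Category.comp_id _)) (pullback.lift_snd _ _ _)
  obtain ⟨V', a, p', -, n, D, o, i, b, hD, -, hW⟩ :=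
    IntegralRefine.exists_refinement f top pp (fun _ : ι => U) (fun _ => g)
      (fun x => {p x.1 x.2})
      (fun x m hm => by
        have hm' : m = p x.1 x.2 := hm
        have : LocallyQuasiFinite g.left :=
          have := Fiber.etale_left g
          FieldExt.locallyQuasiFinite_of_etale _
        have : LocallyQuasiFinite (pullback.fst top.hom f) :=
          MorphismProperty.pullback_fst (P := @LocallyQuasiFinite) _ _ inferInstance
        have : LocallyQuasiFinite (g.left ≫ pullback.fst top.hom f) :=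
          MorphismProperty.comp_mem @LocallyQuasiFinite _ _ ‹LocallyQuasiFinite g.left› ‹_›
        have := FieldExt.discreteTopology_of_locallyQuasiFinite
          (pullback.snd (g.left ≫ pullback.fst top.hom f) (fiberHom pp))
        refine ⟨{z | ∀ s : Spec (CommRingCat.of Ω) ⟶
            pullback (g.left ≫ pullback.fst top.hom f) (fiberHom pp),
            s ≫ pullback.snd _ _ = 𝟙 _ → s.base default = z → s ≫ pullback.fst _ _ = p x.1 x.2},
          isOpen_discrete _, fun s hs hsl s' hs' h' => ?_, fun s hs hs' => hs' s hs rfl⟩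
        have h1 := FieldExt.eq_comp_section hs s' h'
        rw [hs', Category.id_comp] at h1
        rw [h1, hsl]
        exact hm')
      (fun x hx => by
        have hx' : (x ≫ pullback.snd top.hom f) ≫ f = η := PushStalk.snd_comp_eq f hx
        refine ⟨⟨_, hx'⟩, _, rfl, pullback.hom_ext ?_ ?_⟩
        · refine (Category.assoc _ _ _).trans ((_ ≫= pullback.lift_fst _ _ _).trans ?_)
          exact (Category.assoc _ _ _).symm.trans ((hp _ _ =≫ f).trans (hx'.trans hx.symm))
        · exact (Category.assoc _ _ _).trans ((_ ≫= pullback.lift_snd _ _ _).trans (hp _ _)))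
  have hopen := hD.isOpenImmersion
  let 𝒰 : Scheme.OpenCover.{0} (pullback V'.hom f) :=
    Scheme.Cover.mkOfCovers (Fin n) (fun j => (D j).left) (fun j => (o j).left)
      (fun x => by obtain ⟨j, d, hd⟩ := hD.exists_eq x; exact ⟨j, d, hd⟩) hopen
  have hcompat : ∀ j k, pullback.fst (𝒰.f j) (𝒰.f k) ≫ (b j).left =
      pullback.snd _ _ ≫ (b k).left := by
    intro j k
    rcases eq_or_ne j k with rfl | hne
    · have : IsOpenImmersion (𝒰.f j) := hopen j
      have e : pullback.fst (𝒰.f j) (𝒰.f j) = pullback.snd _ _ :=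
        (cancel_mono (𝒰.f j)).1 pullback.condition
      exact e =≫ _
    · have : IsEmpty ↥(pullback (𝒰.f j) (𝒰.f k)) := ⟨fun z => hne (hD.disjoint j k
        ((pullback.fst (𝒰.f j) (𝒰.f k)).base z) ((pullback.snd (𝒰.f j) (𝒰.f k)).base z)
        (congrArg (fun m : pullback (𝒰.f j) (𝒰.f k) ⟶ _ => m.base z) pullback.condition))⟩
      exact isInitialOfIsEmpty.hom_ext _ _
  let s : pullback V'.hom f ⟶ P := 𝒰.glueMorphisms (fun j => (b j).left) hcompat
  have hs : ∀ j, (o j).left ≫ s = (b j).left := fun j => 𝒰.ι_glueMorphisms _ hcompat j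
  have hoD : ∀ j, (o j).left ≫ pullback.snd V'.hom f = (D j).hom := fun j => Over.w (o j).hom
  have hbD : ∀ j, (b j).left ≫ π = (D j).hom := fun j => Over.w (b j).hom
  refine ⟨V'.left, V'.hom, fiberHom p', s, V'.prop, fiberHom_comp p', 𝒰.hom_ext _ _ fun j => ?_,
    fun l hl => ?_⟩
  · change (o j).left ≫ s ≫ π = (o j).left ≫ _
    rw [reassoc_of% hs, hoD]
    exact hbD j
  · obtain ⟨j, l', hl'⟩ := hD.exists_fac l
    have hlb : l' ≫ (b j).left = p (i j).1 (i j).2 :=
      hW j l' ((Category.assoc _ _ _).symm.trans ((hl' =≫ _).trans hl))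
    have he : (i j).1 = l ≫ pullback.snd V'.hom f := by
      calc (i j).1 = (l' ≫ (b j).left) ≫ π := by rw [hlb]; exact (hp _ _).symm
        _ = l' ≫ (o j).left ≫ pullback.snd V'.hom f :=
          (Category.assoc _ _ _).trans ((l' ≫= hbD j).trans (l' ≫= (hoD j).symm))
        _ = l ≫ pullback.snd V'.hom f := (Category.assoc _ _ _).symm.trans (hl' =≫ _)
    have hh : (l ≫ pullback.snd V'.hom f) ≫ f = η := he ▸ (i j).2
    have key : ∀ (x y : Spec (CommRingCat.of Ω) ⟶ X) (h : x ≫ f = η) (h' : y ≫ f = η),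
        x = y → p x h = p y h' := fun x y h h' e => by subst e; rfl
    exact ⟨hh, ((hl' =≫ s).symm.trans ((Category.assoc _ _ _).trans ((l' ≫= hs j).trans hlb))).trans
      (key _ _ _ _ he)⟩

/-- An open containing all geometric points over `p` contains the preimage of a neighbourhood. -/
theorem exists_open {X T : Scheme.{u}} (φ : X ⟶ T) [IsFinite φ] (p : Spec (CommRingCat.of Ω) ⟶ T)
    (W : X.Opens) (h : ∀ l : Spec (CommRingCat.of Ω) ⟶ X, l ≫ φ = p → l.base default ∈ W) :
    ∃ V : T.Opens, p.base default ∈ V ∧ φ ⁻¹ᵁ V ≤ W := by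
  refine ⟨⟨(φ.base '' (W : Set X)ᶜ)ᶜ, (φ.isClosedMap _ W.isOpen.isClosed_compl).isOpen_compl⟩, ?_,
    fun x hx => ?_⟩
  · rintro ⟨w, hw, e⟩
    obtain ⟨l, hl, hlw⟩ := EtShriek50.Piece.exists_pt_over φ p w e
    exact hw (hlw ▸ h l hl)
  · by_contra hxW
    exact hx ⟨x, hxW, rfl⟩

end Groth.Agent.Lib.ConstQuot
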