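import Groth.Agent.Lib.ConstQuot.Stack
import Groth.Agent.Lib.ConstQuot.BaseChange

/-!
# Flat affine base change of finite orbit quotients
-/

set_option autoImplicit false
set_option backward.isDefEq.respectTransparency false
set_option backward.isDefEq.respectTransparency.types false

universe v u

open CategoryTheory CategoryTheory.Limits AlgebraicGeometry MonoidalCategory CartesianMonoidalCategory

noncomputable section

namespace Groth.Agent.Lib.ConstQuot

open AlgSp (Sp yon IsAlgSpace)

variable {S : Scheme.{u}} {X Y X' Y' : Over S} {q : X ⟶ Y} {G : Type v} {γ : G → (X ⟶ X)}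

/-- The lift of an automorphism over the base to a base change. -/
def liftAut {g : Y' ⟶ Y} {p1 : X' ⟶ X} {p2 : X' ⟶ Y'} (sq : IsPullback p1 p2 q g)
    (hγ : ∀ g, γ g ≫ q = q) (i : G) : X' ⟶ X' :=
  sq.lift (p1 ≫ γ i) p2 (by rw [Category.assoc, hγ, sq.w])

/-- The quotient property is stable under flat base change. -/
theorem IsQuot.baseChange (h : IsQuot q γ) {g : Y' ⟶ Y} [Flat g.left] {p1 : X' ⟶ X} {p2 : X' ⟶ Y'}
    (sq : IsPullback p1 p2 q g) : IsQuot p2 (liftAut sq h.γ_q) where
  γ_q _ := sq.lift_snd _ _ _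
  finite := MorphismProperty.of_isPullback (P := @IsFinite) (sq.map (Over.forget S)) h.finite
  surj := MorphismProperty.of_isPullback (P := @Surjective) (sq.map (Over.forget S)) h.surj
  orbit Ω _ _ ξ ξ' e := by
    have hw : p1.left ≫ q.left = p2.left ≫ g.left := congrArg CommaMorphism.left sq.w
    obtain ⟨i, hi⟩ := h.orbit Ω (ξ ≫ p1.left) (ξ' ≫ p1.left) (by
      rw [Category.assoc, Category.assoc, hw, reassoc_of% e])
    refine ⟨i, (sq.map (Over.forget S)).hom_ext ?_ ?_⟩
    · change (ξ ≫ (liftAut sq h.γ_q i).left) ≫ p1.left = _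
      rw [Category.assoc, ← Over.comp_left, liftAut, sq.lift_fst, Over.comp_left, ← Category.assoc, hi]
      rfl
    · change (ξ ≫ (liftAut sq h.γ_q i).left) ≫ p2.left = _
      rw [Category.assoc, ← Over.comp_left, liftAut, sq.lift_snd, e]
      rfl
  inj t _ _ pr1 pr2 s _ _ a b e := by
    have : Flat (t ≫ g).left := by rw [Over.comp_left]; infer_instance
    exact h.inj (t ≫ g) (pr1 ≫ p1) pr2 (s.paste_horiz sq) a b e
  desc t _ XT pr1 pr2 s _ _ f hf := by
    have : Flat (t ≫ g).left := by rw [Over.comp_left]; infer_instance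
    refine h.desc (t ≫ g) (pr1 ≫ p1) pr2 (s.paste_horiz sq) f fun i γ' h1 h2 => hf i γ' ?_ h2
    refine sq.hom_ext ?_ ?_
    · rw [Category.assoc, h1, Category.assoc, Category.assoc, liftAut, sq.lift_fst]
    · rw [Category.assoc, Category.assoc, liftAut, sq.lift_snd, s.w, reassoc_of% h2]

namespace Stack

variable {R A : Type u} [CommRing R] [CommRing A] [Algebra R A] {G : Type u} [Group G] [Fintype G]
  [DecidableEq G] [MulSemiringAction G A] [SMulCommClass G R A]

/-- After flat affine base change `[Spec A/G] ⟶ Spec A^G` stays a coarse moduli space. -/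
theorem isCoarseModuli_baseChange [Algebra.FiniteType R A]
    (π : ConstAct.quotSt R A G Scheme.fppfPrecoverage ⥤ᵇ AlgSt.ofSch (ConstAct.specInv R A G))
    (hπ : BasedFunctor.comp
        (AlgSt.quotMap Scheme.fppfPrecoverage (ConstAct.GR R G) (ConstAct.gaction R A G)) π =
      AlgSt.ofSpMap ((yon (Spec (CommRingCat.of R))).map (ConstAct.quot R A G)))
    {Y' : Over (Spec (CommRingCat.of R))} [IsAffine Y'.left] (g : Y' ⟶ ConstAct.specInv R A G)
    [Flat g.left] :
    AlgSt.IsCoarseModuli (FibCat.fpFst (AlgSt.ofSpMap ((yon (Spec (CommRingCat.of R))).map g)) π) := by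
  have sq := IsPullback.of_hasPullback (ConstAct.quot R A G) g
  refine ⟨BaseChange.isCatModuli_fpFst π g sq le_rfl hπ fun N hN ψ hψ => ?_,
    BaseChange.geomPtBij_fpFst sq hπ (fun Ω _ _ t => (orbit_points Ω t).1)
      (isCoarseModuli π hπ).2⟩
  have hq := (isQuot_quot (R := R) (A := A) (G := G)).baseChange sq
  refine existsUnique_desc hq hN ψ fun i => ?_
  have e := hψ _ (lift (pullback.fst _ _ ≫ cA R A i⁻¹) (pullback.fst _ _))
    (liftAut sq (isQuot_quot (R := R) (A := A) (G := G)).γ_q i) (𝟙 _) ?_ ?_ ?_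
  · rwa [CategoryTheory.Functor.map_id, Category.id_comp] at e
  · rw [liftAut, sq.lift_fst]
    conv_rhs => rw [show lift (pullback.fst _ _ ≫ cA R A i⁻¹) (pullback.fst (ConstAct.quot R A G) g) =
      pullback.fst _ _ ≫ lift (cA R A i⁻¹) (𝟙 _) by rw [comp_lift, Category.comp_id]]
    rw [Category.assoc, lift_cA, inv_inv]
  · rw [Category.id_comp, lift_snd]
  · rw [liftAut, sq.lift_snd, Category.id_comp]

end Stack

end Groth.Agent.Lib.ConstQuot
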