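import Groth.Agent.Lib.ConstQuot.EtaleSection
import Groth.Agent.Lib.AlgStack.CatModuliLocal
import Groth.Agent.Lib.AlgSpace.DiagProp
import Mathlib.AlgebraicGeometry.ZariskisMainTheorem

/-!
# Finite orbit quotients are categorical quotients among algebraic spaces
-/

set_option autoImplicit false
set_option backward.isDefEq.respectTransparency false
set_option backward.isDefEq.respectTransparency.types false

universe v u

open CategoryTheory CategoryTheory.Limits AlgebraicGeometry

noncomputable section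

namespace Groth.Agent.Lib.ConstQuot

open Groth.Agent.Lib.AlgSpace
open Groth.Agent.Lib.AlgStack.CatModuliLocal (aff affι etale_affι)
open AlgSp (Sp yon IsAlgSpace RepWith Points)

variable {S : Scheme.{u}}

/-- A finite surjective invariant map with orbits as geometric fibres, whose functions are the invariant
functions, also after flat affine base change. -/
structure IsQuot {X Y : Over S} (q : X ⟶ Y) {G : Type v} (γ : G → (X ⟶ X)) : Prop where
  γ_q : ∀ g, γ g ≫ q = q
  finite : IsFinite q.left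
  surj : Surjective q.left
  orbit : ∀ (Ω : Type u) [Field Ω] [IsAlgClosed Ω] (ξ ξ' : Spec (CommRingCat.of Ω) ⟶ X.left),
    ξ ≫ q.left = ξ' ≫ q.left → ∃ g, ξ ≫ (γ g).left = ξ'
  inj : ∀ {T : Over S} [IsAffine T.left] (t : T ⟶ Y) [Flat t.left] {XT : Over S} (pr1 : XT ⟶ X)
    (pr2 : XT ⟶ T), IsPullback pr1 pr2 q t → ∀ {Z : Over S} [IsAffine Z.left] (a b : T ⟶ Z),
    pr2 ≫ a = pr2 ≫ b → a = b
  desc : ∀ {T : Over S} [IsAffine T.left] (t : T ⟶ Y) [Flat t.left] {XT : Over S} (pr1 : XT ⟶ X)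
    (pr2 : XT ⟶ T), IsPullback pr1 pr2 q t → ∀ {Z : Over S} [IsAffine Z.left] (s : XT ⟶ Z),
    (∀ (g : G) (γ' : XT ⟶ XT), γ' ≫ pr1 = pr1 ≫ γ g → γ' ≫ pr2 = pr2 → γ' ≫ s = s) →
    ∃ a : T ⟶ Z, pr2 ≫ a = s

variable {X Y : Over S} {q : X ⟶ Y} {G : Type v} {γ : G → (X ⟶ X)} {N : Sp S}

/-- Maps from flat affine schemes over the quotient are determined by their pullback. -/
theorem eq_of_comp_eq (h : IsQuot q γ) (hN : IsAlgSpace N) {T : Over S} [IsAffine T.left] (t : T ⟶ Y)
    [Flat t.left] {XT : Over S} (pr1 : XT ⟶ X) (pr2 : XT ⟶ T) (sq : IsPullback pr1 pr2 q t)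
    (a b : (yon S).obj T ⟶ N) (e : (yon S).map pr2 ≫ a = (yon S).map pr2 ≫ b) : a = b := by
  have := h.finite
  have := h.surj
  have hdiag : (yon S).relativelyRepresentable (Limits.diag N) := hN.diag
  let sE := hdiag.isPullback (prod.lift a b)
  let R := hdiag.pullback (prod.lift a b)
  let ε : R ⟶ T := hdiag.snd (prod.lift a b)
  let c := hdiag.fst (prod.lift a b)
  have hε : LocallyOfFiniteType ε.left := repWith_property (repWith_diag_locallyOfFiniteType hN) sE
  have : Mono (Limits.diag N) := inferInstance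
  have : Mono ((yon S).map ε) := MorphismProperty.of_isPullback (P := MorphismProperty.monomorphisms _) sE
    (inferInstanceAs (Mono (Limits.diag N)))
  have : Mono ε := (yon S).mono_of_mono_map this
  have : Mono ε.left := inferInstance
  obtain ⟨k, hk⟩ := (yon S).map_surjective (sE.lift ((yon S).map pr2 ≫ a) ((yon S).map pr2)
    (by rw [prod.comp_lift, prod.comp_lift, Category.comp_id, ← e]))
  have hkε : k ≫ ε = pr2 := (yon S).map_injective (by rw [Functor.map_comp, hk, sE.lift_snd])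
  have sqs : IsPullback pr1.left pr2.left q.left t.left := sq.map (Over.forget S)
  have : IsFinite pr2.left := MorphismProperty.of_isPullback (P := @IsFinite) sqs h.finite
  have : Surjective pr2.left := MorphismProperty.of_isPullback (P := @Surjective) sqs h.surj
  have hk' : k.left ≫ ε.left = pr2.left := congrArg CommaMorphism.left hkε
  have : Surjective k.left := ⟨fun z => by
    obtain ⟨w, hw⟩ := pr2.left.surjective (ε.left.base z)
    refine ⟨w, ε.left.injective ?_⟩
    rw [← hw, ← hk']; rfl⟩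
  have : UniversallyClosed (k.left ≫ ε.left) := by rw [hk']; infer_instance
  have : UniversallyClosed ε.left := UniversallyClosed.of_comp_surjective k.left ε.left
  have : IsSeparated ε.left := inferInstance
  have : QuasiCompact ε.left := inferInstance
  have : IsProper ε.left := ⟨⟩
  have : IsClosedImmersion ε.left :=
    (IsClosedImmersion.iff_isProper_and_mono ε.left).2 ⟨inferInstance, inferInstance⟩
  have : IsAffine R.left := isAffine_of_isAffineHom ε.left
  obtain ⟨r, hr⟩ := h.desc t pr1 pr2 sq k fun g γ' _ h2 => by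
    rw [← cancel_mono ε, Category.assoc, hkε, h2]
  have hrε : r ≫ ε = 𝟙 T := h.inj t pr1 pr2 sq _ _ (by rw [reassoc_of% hr, hkε, Category.comp_id])
  have w : c ≫ prod.lift (𝟙 N) (𝟙 N) = (yon S).map ε ≫ prod.lift a b := sE.w
  rw [prod.comp_lift, prod.comp_lift, Category.comp_id] at w
  have w1 := congrArg (· ≫ Limits.prod.fst) w
  have w2 := congrArg (· ≫ Limits.prod.snd) w
  simp only [prod.lift_fst, prod.lift_snd] at w1 w2
  calc a = (yon S).map (r ≫ ε) ≫ a := by rw [hrε, CategoryTheory.Functor.map_id, Category.id_comp]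
    _ = (yon S).map (r ≫ ε) ≫ b := by rw [Functor.map_comp, Category.assoc, Category.assoc, ← w1, ← w2]
    _ = b := by rw [hrε, CategoryTheory.Functor.map_id, Category.id_comp]

/-- An invariant map to an algebraic space descends étale locally on the quotient. -/
theorem exists_chart [Finite G] (h : IsQuot q γ) (hN : IsAlgSpace N) (ψ : (yon S).obj X ⟶ N)
    (hψ : ∀ g, (yon S).map (γ g) ≫ ψ = ψ) (y : Y.left) :
    ∃ (T : Over S) (t : T ⟶ Y) (χ : (yon S).obj T ⟶ N), IsAffine T.left ∧ Etale t.left ∧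
      y ∈ Set.range t.left.base ∧
      ∀ (XT : Over S) (pr1 : XT ⟶ X) (pr2 : XT ⟶ T), IsPullback pr1 pr2 q t →
        (yon S).map pr2 ≫ χ = (yon S).map pr1 ≫ ψ := by
  classical
  have := h.finite
  have := h.surj
  let Ω := AlgebraicClosure (Y.left.residueField y)
  let η : Spec (CommRingCat.of Ω) ⟶ Y.left :=
    Spec.map (CommRingCat.ofHom (algebraMap (Y.left.residueField y) Ω)) ≫ Y.left.fromSpecResidueField y
  have hη : η.base default = y := by
    rw [Scheme.Hom.comp_apply]; exact Scheme.fromSpecResidueField_apply y _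
  obtain ⟨w, hw⟩ := q.left.surjective y
  obtain ⟨ξ₀, hξ₀, -⟩ := EtShriek50.Piece.exists_pt_over q.left η w (hw.trans hη.symm)
  let Tη : Over S := Over.mk (η ≫ Y.hom)
  let pt : ∀ ξ : Spec (CommRingCat.of Ω) ⟶ X.left, ξ ≫ q.left = η → (Tη ⟶ X) := fun ξ hξ =>
    Over.homMk ξ (by
      change ξ ≫ X.hom = η ≫ Y.hom
      rw [← Over.w q, ← Category.assoc, hξ])
  -- an affine étale chart through the image
  obtain ⟨U₀, a₀, hae, has⟩ := hN.atlas
  obtain ⟨R, r₁, r₂, sR⟩ := exists_isPullback_yon hN.diag ((yon S).map (pt ξ₀ hξ₀) ≫ ψ) a₀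
  have : Etale r₁.left := repWith_property hae sR.flip
  have : Surjective r₁.left := repWith_property has sR.flip
  obtain ⟨z, hz⟩ := r₁.left.surjective (default : Spec (CommRingCat.of Ω))
  obtain ⟨l₀, hl₀, -⟩ := Scheme.exists_fac_of_etale_of_isSepClosed r₁.left (𝟙 _) z hz
  let σ₀ : Tη ⟶ R := Over.homMk l₀ ((l₀ ≫= (Over.w r₁).symm).trans
    ((Category.assoc _ _ _).symm.trans ((hl₀ =≫ _).trans (Category.id_comp _))))
  let o : Tη.left := (default : Spec (CommRingCat.of Ω))
  have hσ₀ : σ₀ ≫ r₁ = 𝟙 Tη := Over.OverMorphism.ext hl₀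
  let u₀ : Tη ⟶ U₀ := σ₀ ≫ r₂
  have hu₀ : (yon S).map u₀ ≫ a₀ = (yon S).map (pt ξ₀ hξ₀) ≫ ψ := by
    rw [Functor.map_comp, Category.assoc, ← sR.w, ← Category.assoc, ← Functor.map_comp, hσ₀,
      CategoryTheory.Functor.map_id, Category.id_comp]
  obtain ⟨V, hV, huV, -⟩ := exists_isAffineOpen_mem_and_subset (X := U₀.left) (U := ⊤)
    (x := u₀.left.base o) trivial
  let O : U₀.left.affineOpens := ⟨V, hV⟩
  have : IsAffine (aff U₀ O).left := hV
  let U := aff U₀ O
  let a : (yon S).obj U ⟶ N := (yon S).map (affι U₀ O) ≫ a₀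
  have hU : Set.range u₀.left.base ⊆ Set.range V.ι.base := by
    rintro _ ⟨i, rfl⟩
    rw [show i = o from Subsingleton.elim (α := ↥(Spec (CommRingCat.of Ω))) i o]
    exact ⟨⟨_, huV⟩, rfl⟩
  let u : Tη ⟶ U := Over.homMk (IsOpenImmersion.lift V.ι u₀.left hU) (by
    change IsOpenImmersion.lift V.ι u₀.left hU ≫ V.ι ≫ U₀.hom = _
    rw [IsOpenImmersion.lift_fac_assoc]
    exact Over.w u₀)
  have hu : (yon S).map u ≫ a = (yon S).map (pt ξ₀ hξ₀) ≫ ψ := by
    rw [← hu₀, ← Category.assoc, ← Functor.map_comp]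
    congr 2
    exact Over.OverMorphism.ext (IsOpenImmersion.lift_fac _ _ _)
  obtain ⟨P, π, ρ, sP⟩ := exists_isPullback_yon hN.diag ψ a
  have hπE : Etale π.left := repWith_property (etale_affι hae O) sP.flip
  -- the geometric points of the pullback over the fibre
  have hp : ∀ (ξ : Spec (CommRingCat.of Ω) ⟶ X.left) (hξ : ξ ≫ q.left = η),
      ∃ k : Tη ⟶ P, k ≫ π = pt ξ hξ ∧ k ≫ ρ = u := by
    intro ξ hξ
    obtain ⟨g, hg⟩ := h.orbit Ω ξ₀ ξ (hξ₀.trans hξ.symm)
    have e1 : pt ξ hξ = pt ξ₀ hξ₀ ≫ γ g := Over.OverMorphism.ext hg.symm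
    obtain ⟨k, hk⟩ := (yon S).map_surjective (sP.lift ((yon S).map (pt ξ hξ)) ((yon S).map u)
      (by rw [hu, e1, Functor.map_comp, Category.assoc, hψ]))
    exact ⟨k, (yon S).map_injective (by rw [Functor.map_comp, hk, sP.lift_fst]),
      (yon S).map_injective (by rw [Functor.map_comp, hk, sP.lift_snd])⟩
  choose k hkπ hkρ using hp
  obtain ⟨T₀, t₀, p', s₀, ht₀, hp', hs₀, hval⟩ := exists_section q.left π.left η
    (fun ξ hξ => (k ξ hξ).left) (fun ξ hξ => congrArg CommaMorphism.left (hkπ ξ hξ))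
  let T₁ : Over S := Over.mk (t₀ ≫ Y.hom)
  let t₁ : T₁ ⟶ Y := Over.homMk t₀ rfl
  let X₁ : Over S := Over.mk (pullback.fst t₀ q.left ≫ T₁.hom)
  let pr₁ : X₁ ⟶ X := Over.homMk (pullback.snd t₀ q.left) (by
    change pullback.snd t₀ q.left ≫ X.hom = pullback.fst t₀ q.left ≫ t₀ ≫ Y.hom
    rw [← Over.w q, pullback.condition_assoc])
  let pr₂ : X₁ ⟶ T₁ := Over.homMk (pullback.fst t₀ q.left) rfl
  have sq₁ : IsPullback pr₁ pr₂ q t₁ := IsPullback.of_map (Over.forget S)
    (Over.OverMorphism.ext pullback.condition.symm) (IsPullback.of_hasPullback t₀ q.left).flip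
  let s₁ : X₁ ⟶ P := Over.homMk s₀ (by
    rw [← Over.w π, ← Category.assoc, hs₀]
    exact Over.w pr₁)
  let s₂ : X₁ ⟶ U := s₁ ≫ ρ
  have hs₂ : (yon S).map s₂ ≫ a = (yon S).map pr₁ ≫ ψ := by
    rw [Functor.map_comp, Category.assoc, ← sP.w, ← Category.assoc, ← Functor.map_comp]
    congr 2
    exact Over.OverMorphism.ext hs₀
  let p₁ : Tη ⟶ T₁ := Over.homMk p' (by
    change p' ≫ t₀ ≫ Y.hom = η ≫ Y.hom
    rw [← Category.assoc, hp'])
  have hvalU : ∀ l : Tη ⟶ X₁, l ≫ pr₂ = p₁ → l ≫ s₂ = u := by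
    intro l hl
    obtain ⟨hh, e⟩ := hval l.left (congrArg CommaMorphism.left hl)
    refine Over.OverMorphism.ext ?_
    rw [← hkρ _ hh]
    change l.left ≫ s₀ ≫ ρ.left = (k _ hh).left ≫ ρ.left
    exact (Category.assoc _ _ _).symm.trans (e =≫ _)
  -- the diagonal of the chart
  obtain ⟨W, w₁, w₂, sW⟩ := exists_isPullback_yon hN.diag a a
  obtain ⟨d, hd⟩ := (yon S).map_surjective (sW.lift (𝟙 _) (𝟙 _) rfl)
  have hd1 : d ≫ w₁ = 𝟙 U := (yon S).map_injective (by
    rw [Functor.map_comp, hd, sW.lift_fst, CategoryTheory.Functor.map_id])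
  have hd2 : d ≫ w₂ = 𝟙 U := (yon S).map_injective (by
    rw [Functor.map_comp, hd, sW.lift_snd, CategoryTheory.Functor.map_id])
  have hd1' : d.left ≫ w₁.left = 𝟙 U.left := congrArg CommaMorphism.left hd1
  have hw1 : Etale w₁.left := repWith_property (etale_affι hae O) sW.flip
  have : Etale d.left := MorphismProperty.of_postcomp @Etale d.left w₁.left hw1
    (by rw [hd1']; infer_instance)
  have : Mono d.left := mono_of_mono_fac hd1'
  have : IsOpenImmersion d.left := IsOpenImmersion.of_flat_of_mono d.left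
  let γ₁ : G → (X₁ ⟶ X₁) := fun g => sq₁.lift (pr₁ ≫ γ g) pr₂ (by
    rw [Category.assoc, h.γ_q g, sq₁.w])
  have hσ : ∀ g, ∃ σ : X₁ ⟶ W, σ ≫ w₁ = γ₁ g ≫ s₂ ∧ σ ≫ w₂ = s₂ := fun g => by
    obtain ⟨σ, hσ⟩ := (yon S).map_surjective (sW.lift ((yon S).map (γ₁ g ≫ s₂)) ((yon S).map s₂) (by
      rw [Functor.map_comp, Category.assoc, hs₂, ← Category.assoc, ← Functor.map_comp, sq₁.lift_fst,
        Functor.map_comp, Category.assoc, hψ]))
    exact ⟨σ, (yon S).map_injective (by rw [Functor.map_comp, hσ, sW.lift_fst]),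
      (yon S).map_injective (by rw [Functor.map_comp, hσ, sW.lift_snd])⟩
  choose σ hσ₁ hσ₂ using hσ
  let Oinv : X₁.left.Opens :=
    ⟨⋂ g, (σ g).left.base ⁻¹' Set.range d.left.base,
      isOpen_iInter_of_finite fun g => d.left.isOpenEmbedding.isOpen_range.preimage (σ g).left.continuous⟩
  have : IsFinite pr₂.left := MorphismProperty.pullback_fst (P := @IsFinite) _ _ h.finite
  obtain ⟨V₁, hpV₁, hV₁⟩ := exists_open pr₂.left p' Oinv fun l hl => by
    refine Set.mem_iInter.2 fun g => ?_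
    let lO : Tη ⟶ X₁ := Over.homMk l (by
      change l ≫ pr₂.left ≫ T₁.hom = η ≫ Y.hom
      rw [← Category.assoc, hl]
      change p' ≫ t₀ ≫ Y.hom = _
      rw [← Category.assoc, hp'])
    have hlO : lO ≫ pr₂ = p₁ := Over.OverMorphism.ext hl
    have e : lO ≫ σ g = u ≫ d := by
      refine (yon S).map_injective (sW.hom_ext ?_ ?_)
      · rw [← Functor.map_comp, ← Functor.map_comp, Category.assoc, Category.assoc, hσ₁, hd1,
          Category.comp_id, ← Category.assoc, hvalU _ (by rw [Category.assoc, sq₁.lift_snd, hlO])]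
      · rw [← Functor.map_comp, ← Functor.map_comp, Category.assoc, Category.assoc, hσ₂, hd2,
          Category.comp_id, hvalU _ hlO]
    exact ⟨u.left.base o, (congrArg (fun m : Tη ⟶ W => m.left.base o) e).symm⟩
  obtain ⟨V₂, hV₂, hpV₂, hV₂₁⟩ := exists_isAffineOpen_mem_and_subset (X := T₁.left) (U := V₁) hpV₁
  let T : Over S := aff T₁ ⟨V₂, hV₂⟩
  let i : T ⟶ T₁ := affι T₁ ⟨V₂, hV₂⟩
  have hTaff : IsAffine T.left := hV₂
  have hET : Etale (i ≫ t₁).left := inferInstanceAs (Etale (V₂.ι ≫ t₀))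
  let m := pullback.fst pr₂ i
  let pT := pullback.snd pr₂ i
  have sqT : IsPullback (m ≫ pr₁) pT q (i ≫ t₁) :=
    ((IsPullback.of_hasPullback pr₂ i).paste_horiz sq₁)
  obtain ⟨b, hb⟩ := h.desc (i ≫ t₁) _ _ sqT (m ≫ s₂) fun g γ' h1 h2 => by
    have hm : γ' ≫ m = m ≫ γ₁ g := by
      refine sq₁.hom_ext ?_ ?_
      · rw [Category.assoc, h1, Category.assoc, Category.assoc, sq₁.lift_fst]
      · rw [Category.assoc, Category.assoc, sq₁.lift_snd, pullback.condition, reassoc_of% h2]
    have hr : Set.range (m ≫ σ g).left.base ⊆ Set.range d.left.base := by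
      rintro _ ⟨z, rfl⟩
      have hz : pr₂.left.base (m.left.base z) ∈ V₁ := by
        have e : m.left ≫ pr₂.left = pT.left ≫ V₂.ι :=
          congrArg (fun k : pullback pr₂ i ⟶ T₁ => k.left) pullback.condition
        rw [← Scheme.Hom.comp_apply, e, Scheme.Hom.comp_apply]
        exact hV₂₁ (pT.left.base z).2
      exact Set.mem_iInter.1 (hV₁ hz) g
    have e : IsOpenImmersion.lift d.left (m ≫ σ g).left hr ≫ d.left = (m ≫ σ g).left :=
      IsOpenImmersion.lift_fac _ _ _
    rw [reassoc_of% hm, ← hσ₁ g]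
    conv_rhs => rw [← hσ₂ g]
    refine Over.OverMorphism.ext ?_
    rw [← Category.assoc, ← Category.assoc]
    change (m ≫ σ g).left ≫ w₁.left = (m ≫ σ g).left ≫ w₂.left
    rw [← e, Category.assoc, Category.assoc]
    exact (_ ≫= hd1').trans (_ ≫= (congrArg CommaMorphism.left hd2 : d.left ≫ w₂.left = 𝟙 _).symm)
  refine ⟨T, i ≫ t₁, (yon S).map b ≫ a, hTaff, hET, ?_, fun XT q₁ q₂ sq => ?_⟩
  · refine ⟨⟨p'.base default, hpV₂⟩, ?_⟩
    change t₀.base (p'.base default) = y
    rw [← Scheme.Hom.comp_apply, hp', hη]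
  · let e := sq.isoIsPullback _ _ sqT
    have e1 : e.hom ≫ m ≫ pr₁ = q₁ := sq.isoIsPullback_hom_fst _ _ sqT
    have e2 : e.hom ≫ pT = q₂ := sq.isoIsPullback_hom_snd _ _ sqT
    have hb' : (yon S).map pT ≫ (yon S).map b ≫ a = (yon S).map (m ≫ pr₁) ≫ ψ := by
      rw [← Category.assoc, ← Functor.map_comp, hb, Functor.map_comp, Category.assoc, hs₂,
        Functor.map_comp, Category.assoc]
    calc (yon S).map q₂ ≫ (yon S).map b ≫ a
        = (yon S).map e.hom ≫ (yon S).map pT ≫ (yon S).map b ≫ a := by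
          rw [← e2, Functor.map_comp, Category.assoc]
      _ = (yon S).map q₁ ≫ ψ := by rw [hb', ← Functor.map_comp_assoc, e1]

/-- Invariant maps to algebraic spaces factor uniquely through the quotient. -/
theorem existsUnique_desc [Finite G] [IsAffine Y.left] (h : IsQuot q γ) (hN : IsAlgSpace N)
    (ψ : (yon S).obj X ⟶ N) (hψ : ∀ g, (yon S).map (γ g) ≫ ψ = ψ) :
    ∃! χ : (yon S).obj Y ⟶ N, (yon S).map q ≫ χ = ψ := by
  choose T t χ hT ht hy hχ using fun y => exists_chart h hN ψ hψ y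
  have he : ∀ y, RepWith @Etale ((yon S).map (t y)) := fun y => (AlgSp.repWith_yon_map_iff _ _).2 (ht y)
  have hs : ∀ x : Points ((yon S).obj Y), ∃ y o, Points.ofPt ((yon S).map (t y)) o = x := by
    intro x
    obtain ⟨y, rfl⟩ := surjective_ofPt (a := 𝟙 ((yon S).obj Y)) (AlgSp.repWith_id _ _) x
    obtain ⟨o, ho⟩ := hy y
    refine ⟨y, o, ?_⟩
    have := ofPt_yon_map_comp (t y) (𝟙 ((yon S).obj Y)) o
    rw [Category.comp_id] at this
    rw [this, ho]
  obtain ⟨c, hc⟩ := Lib.AlgSpColimit.exists_desc_family (IsAlgSpace.yon_obj Y) he hs χ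
    fun k l W gk gl e => by
    let Z := pullback (t k) (t l)
    let e₁ := pullback.fst (t k) (t l)
    let e₂ := pullback.snd (t k) (t l)
    have hZ : IsPullback e₁.left e₂.left (t k).left (t l).left :=
      (IsPullback.of_hasPullback (t k) (t l)).map (Over.forget S)
    have := hT k
    have := hT l
    have : IsAffine Z.left := IsAffine.of_isIso hZ.isoPullback.hom
    have := ht k
    have : Etale e₂.left := MorphismProperty.of_isPullback (P := @Etale) hZ (ht k)
    have := ht l
    have : Flat (e₁ ≫ t k).left := by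
      rw [show e₁ ≫ t k = e₂ ≫ t l from pullback.condition, Over.comp_left]
      infer_instance
    let sZ := IsPullback.of_hasPullback q (e₁ ≫ t k)
    obtain ⟨m, rfl, rfl⟩ : ∃ m : W ⟶ Z, m ≫ e₁ = gk ∧ m ≫ e₂ = gl :=
      ⟨pullback.lift gk gl ((yon S).map_injective (by simpa using e)), pullback.lift_fst _ _ _,
        pullback.lift_snd _ _ _⟩
    have key : (yon S).map e₁ ≫ χ k = (yon S).map e₂ ≫ χ l := by
      refine eq_of_comp_eq h hN (e₁ ≫ t k) _ _ sZ _ _ ?_
      let sk := IsPullback.of_hasPullback q (t k)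
      let sl := IsPullback.of_hasPullback q (t l)
      let mk : pullback q (e₁ ≫ t k) ⟶ pullback q (t k) := pullback.lift (pullback.fst _ _)
        (pullback.snd _ _ ≫ e₁) (pullback.condition.trans (Category.assoc _ _ _).symm)
      let ml : pullback q (e₁ ≫ t k) ⟶ pullback q (t l) := pullback.lift (pullback.fst _ _)
        (pullback.snd _ _ ≫ e₂) (pullback.condition.trans
          ((pullback.snd _ _ ≫= (pullback.condition : e₁ ≫ t k = e₂ ≫ t l)).trans
            (Category.assoc _ _ _).symm))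
      have hk' := congrArg ((yon S).map mk ≫ ·) (hχ k _ _ _ sk)
      have hl' := congrArg ((yon S).map ml ≫ ·) (hχ l _ _ _ sl)
      simp only [← Category.assoc, ← Functor.map_comp, mk, ml, pullback.lift_fst, pullback.lift_snd]
        at hk' hl'
      rw [← Category.assoc, ← Category.assoc, ← Functor.map_comp, ← Functor.map_comp, hk', hl']
    simp only [Functor.map_comp, Category.assoc, key]
  have hq : (yon S).map q ≫ c = ψ := by
    refine hom_ext_of_family (fun y => pullback q (t y)) (fun y => pullback.fst q (t y)) ?_ fun y => ?_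
    · have he' : ∀ y, Etale (pullback.fst q (t y)).left := fun y =>
        MorphismProperty.of_isPullback (P := @Etale)
          ((IsPullback.of_hasPullback q (t y)).flip.map (Over.forget S)) (ht y)
      refine ofArrows_mem_J _ _ (fun y => haveI := he' y; inferInstance)
        (fun y => haveI := he' y; inferInstance) fun x => ?_
      obtain ⟨o, ho⟩ := hy (q.left.base x)
      let sy := (IsPullback.of_hasPullback q (t (q.left.base x))).map (Over.forget S)
      obtain ⟨z, hz, -⟩ := Scheme.Pullback.exists_preimage_pullback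
        (f := (Over.forget S).map q) (g := (Over.forget S).map (t (q.left.base x))) x o ho.symm
      exact ⟨q.left.base x, sy.isoPullback.inv.base z,
        (congrArg (fun m : _ ⟶ X.left => m.base z) sy.isoPullback_inv_fst).trans hz⟩
    · rw [← Category.assoc, ← Functor.map_comp, pullback.condition, Functor.map_comp, Category.assoc,
        hc y, hχ y _ _ _ (IsPullback.of_hasPullback q (t y))]
  refine ⟨c, hq, fun c' hc' => ?_⟩
  exact eq_of_comp_eq h hN (𝟙 Y) (𝟙 X) q (IsPullback.of_horiz_isIso ⟨by simp⟩) c' c (hc'.trans hq.symm)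

end Groth.Agent.Lib.ConstQuot
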