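import Groth.Agent.Lib.ConstQuot.Quotient
import Groth.Agent.S9261
import Groth.Agent.S18899
import Groth.Prelude.Def_ConstAct

/-!
# The spectrum of the invariants of a finite group
-/

set_option autoImplicit false
set_option backward.isDefEq.respectTransparency false
set_option backward.isDefEq.respectTransparency.types false

universe u

open CategoryTheory CategoryTheory.Limits AlgebraicGeometry TensorProduct

noncomputable section

namespace Groth.Agent.Lib.ConstQuot

variable {R A : Type u} [CommRing R] [CommRing A] [Algebra R A] {G : Type u} [Group G]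
  [MulSemiringAction G A] [SMulCommClass G R A]

set_option quotPrecheck false in
local notation "B" => ↥(ConstAct.inv R A G)

instance smulCommClass_inv : SMulCommClass G B A where
  smul_comm g b a := by
    change g • ((b : A) * a) = (b : A) * g • a
    rw [smul_mul', (b.2 : _) g]

instance isInvariant_inv : Algebra.IsInvariant B A G := ⟨fun a ha => ⟨⟨a, ha⟩, rfl⟩⟩

theorem faithfulSMul_inv : FaithfulSMul B A :=
  (faithfulSMul_iff_algebraMap_injective B A).2 Subtype.val_injective

variable [Finite G]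

theorem finite_inv [Algebra.FiniteType R A] : Module.Finite B A := by
  have : Algebra.IsIntegral B A := Algebra.IsInvariant.isIntegral B A G
  have : Algebra.FiniteType B A := Algebra.FiniteType.of_restrictScalars_finiteType R B A
  exact Algebra.IsIntegral.finite

theorem surjective_quot : Surjective (ConstAct.quot R A G).left := by
  have : Algebra.IsIntegral B A := Algebra.IsInvariant.isIntegral B A G
  have := faithfulSMul_inv (R := R) (A := A) (G := G)
  exact ⟨Algebra.IsIntegral.comap_surjective B A⟩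

/-- The automorphism of a base change. -/
def tAct (B' : Type u) [CommRing B'] [Algebra B B'] (g : G) :
    Spec (CommRingCat.of (B' ⊗[B] A)) ⟶ Spec (CommRingCat.of (B' ⊗[B] A)) :=
  Spec.map (CommRingCat.ofHom (Algebra.TensorProduct.map (AlgHom.id B B')
    (MulSemiringAction.toAlgHom B A g)).toRingHom)

/-- Functions on flat base changes of the invariants are the invariant functions. -/
theorem flat_functions {T : Scheme.{u}} [IsAffine T] (t : T ⟶ (ConstAct.specInv R A G).left) [Flat t] :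
    ∃ (P : Scheme.{u}) (p1 : P ⟶ (ConstAct.specA R A).left) (p2 : P ⟶ T),
      IsPullback p1 p2 (ConstAct.quot R A G).left t ∧
      (∀ (Z : Scheme.{u}) [IsAffine Z] (a b : T ⟶ Z), p2 ≫ a = p2 ≫ b → a = b) ∧
      ∀ (Z : Scheme.{u}) [IsAffine Z] (s : P ⟶ Z),
        (∀ (g : G) (γ' : P ⟶ P), γ' ≫ p1 = p1 ≫ (ConstAct.act R A G g).left → γ' ≫ p2 = p2 →
          γ' ≫ s = s) → ∃ a : T ⟶ Z, p2 ≫ a = s := by
  let φ : CommRingCat.of B ⟶ Γ(T, ⊤) :=
    Spec.preimage (S := Γ(T, ⊤)) (R := CommRingCat.of B) (T.isoSpec.inv ≫ t)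
  have hφt : Spec.map φ = T.isoSpec.inv ≫ t := Spec.map_preimage _
  let B' : Type u := Γ(T, ⊤)
  letI : Algebra B B' := φ.hom.toAlgebra
  have : Flat (T.isoSpec.inv ≫ t) := inferInstance
  have hflat : φ.hom.Flat := (HasRingHomProperty.Spec_iff (P := @Flat)).1 (by rw [hφt]; infer_instance)
  have : Module.Flat B B' := hflat
  have := faithfulSMul_inv (R := R) (A := A) (G := G)
  obtain ⟨hinj, hdesc⟩ := Groth.Agent.S9261.result B A B' G
  let iL : CommRingCat.of B' ⟶ CommRingCat.of (B' ⊗[B] A) :=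
    CommRingCat.ofHom Algebra.TensorProduct.includeLeftRingHom
  let iR : CommRingCat.of A ⟶ CommRingCat.of (B' ⊗[B] A) :=
    CommRingCat.ofHom (Algebra.TensorProduct.includeRight : A →ₐ[B] B' ⊗[B] A).toRingHom
  let ι : CommRingCat.of B ⟶ CommRingCat.of A := CommRingCat.ofHom (algebraMap B A)
  have s1 : IsPullback (Spec.map iR) (Spec.map iL) (Spec.map ι) (Spec.map φ) := by
    refine ((IsPullback.of_hasPullback (Spec.map φ) (Spec.map ι)).of_iso
      (pullbackSpecIso B B' A) (Iso.refl _) (Iso.refl _) (Iso.refl _) ?_ ?_ ?_ ?_).flip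
    · exact (Category.comp_id _).trans (pullbackSpecIso_hom_fst B B' A).symm
    · exact (Category.comp_id _).trans (pullbackSpecIso_hom_snd B B' A).symm
    · exact (Category.comp_id _).trans (Category.id_comp _).symm
    · exact (Category.comp_id _).trans (Category.id_comp _).symm
  refine ⟨_, Spec.map iR, Spec.map iL ≫ T.isoSpec.inv, ?_, fun Z _ a b e => ?_, fun Z _ s hs => ?_⟩
  · exact s1.of_iso (Iso.refl _) (Iso.refl _) T.isoSpec.symm (Iso.refl _) (by simp) (by simp)
      ((Category.comp_id _).trans (Category.id_comp _).symm)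
      ((Category.comp_id _).trans hφt)
  · rw [← cancel_epi T.isoSpec.inv, ← cancel_mono Z.isoSpec.hom]
    obtain ⟨α, hα⟩ : ∃ α : Γ(Z, ⊤) ⟶ Γ(T, ⊤), Spec.map α = (T.isoSpec.inv ≫ a) ≫ Z.isoSpec.hom :=
      ⟨_, Spec.map_preimage _⟩
    obtain ⟨β, hβ⟩ : ∃ β : Γ(Z, ⊤) ⟶ Γ(T, ⊤), Spec.map β = (T.isoSpec.inv ≫ b) ≫ Z.isoSpec.hom :=
      ⟨_, Spec.map_preimage _⟩
    have e' : α ≫ iL = β ≫ iL := Spec.map_injective (by
      rw [Spec.map_comp, Spec.map_comp, hα, hβ]
      simp only [Category.assoc] at e ⊢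
      rw [reassoc_of% e])
    rw [← hα, ← hβ, show α = β from CommRingCat.hom_ext (RingHom.ext fun z =>
      hinj (congrArg (fun m : Γ(Z, ⊤) ⟶ CommRingCat.of (B' ⊗[B] A) => m.hom z) e'))]
  · let σ : Γ(Z, ⊤) ⟶ CommRingCat.of (B' ⊗[B] A) := Spec.preimage (s ≫ Z.isoSpec.hom)
    have hσ : Spec.map σ = s ≫ Z.isoSpec.hom := Spec.map_preimage _
    have hfix : ∀ (g : G) (z : Γ(Z, ⊤)), Algebra.TensorProduct.map (AlgHom.id B B')
        (MulSemiringAction.toAlgHom B A g) (σ.hom z) = σ.hom z := by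
      intro g z
      have h1 : tAct B' g ≫ s = s := by
        refine hs g (tAct B' g) ?_ ?_
        · rw [ConstAct.act_left, tAct, ← Spec.map_comp, ← Spec.map_comp]
          congr 1
        · rw [tAct, ← Category.assoc, ← Spec.map_comp]
          congr 2
          ext b
          change Algebra.TensorProduct.map (AlgHom.id B B') (MulSemiringAction.toAlgHom B A g)
            (b ⊗ₜ (1 : A)) = b ⊗ₜ 1
          simp
      have h2 : Spec.map (σ ≫ CommRingCat.ofHom (Algebra.TensorProduct.map (AlgHom.id B B')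
          (MulSemiringAction.toAlgHom B A g)).toRingHom) = Spec.map σ := by
        rw [Spec.map_comp, hσ, ← Category.assoc]
        exact h1 =≫ _
      exact congrArg (fun m : Γ(Z, ⊤) ⟶ CommRingCat.of (B' ⊗[B] A) => m.hom z) (Spec.map_injective h2)
    choose α hα using fun z => hdesc (σ.hom z) fun g => hfix g z
    let α' : Γ(Z, ⊤) →+* B' :=
      { toFun := α
        map_one' := hinj (by rw [hα, map_one, map_one])
        map_mul' := fun x y => hinj (by rw [hα, map_mul, map_mul, hα, hα])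
        map_zero' := hinj (by rw [hα, map_zero, map_zero])
        map_add' := fun x y => hinj (by rw [hα, map_add, map_add, hα, hα]) }
    refine ⟨T.isoSpec.hom ≫ Spec.map (CommRingCat.ofHom α') ≫ Z.isoSpec.inv, ?_⟩
    rw [Category.assoc, Iso.inv_hom_id_assoc, ← Category.assoc, ← Spec.map_comp, Iso.comp_inv_eq, ← hσ]
    congr 1
    ext z
    exact hα z

/-- The spectrum of a ring is a finite orbit quotient over the spectrum of the invariants. -/
theorem isQuot_quot [Algebra.FiniteType R A] :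
    IsQuot (ConstAct.quot R A G) (ConstAct.act R A G) := by
  have key : ∀ {T : Over (Spec (CommRingCat.of R))} [IsAffine T.left]
      (t : T ⟶ ConstAct.specInv R A G) [Flat t.left] {XT : Over (Spec (CommRingCat.of R))}
      (pr1 : XT ⟶ ConstAct.specA R A) (pr2 : XT ⟶ T), IsPullback pr1 pr2 (ConstAct.quot R A G) t →
      (∀ (Z : Scheme.{u}) [IsAffine Z] (a b : T.left ⟶ Z), pr2.left ≫ a = pr2.left ≫ b → a = b) ∧
      ∀ (Z : Scheme.{u}) [IsAffine Z] (s : XT.left ⟶ Z),
        (∀ (g : G) (γ' : XT ⟶ XT), γ' ≫ pr1 = pr1 ≫ ConstAct.act R A G g → γ' ≫ pr2 = pr2 →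
          γ'.left ≫ s = s) → ∃ a : T.left ⟶ Z, pr2.left ≫ a = s := by
    intro T _ t _ XT pr1 pr2 sq
    obtain ⟨P, p1, p2, sP, hi, hd⟩ := flat_functions t.left
    have sqs : IsPullback pr1.left pr2.left (ConstAct.quot R A G).left t.left := sq.map (Over.forget _)
    let e := sP.isoIsPullback _ _ sqs
    have e1 : e.hom ≫ pr1.left = p1 := sP.isoIsPullback_hom_fst _ _ sqs
    have e2 : e.hom ≫ pr2.left = p2 := sP.isoIsPullback_hom_snd _ _ sqs
    refine ⟨fun Z _ a b h => hi Z a b ?_, fun Z _ s hs => ?_⟩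
    · rw [← e2, Category.assoc, Category.assoc, h]
    · obtain ⟨a, ha⟩ := hd Z (e.hom ≫ s) fun g γ' h1 h2 => by
        have w1 : (e.inv ≫ γ' ≫ e.hom) ≫ pr1.left = pr1.left ≫ (ConstAct.act R A G g).left := by
          simp only [Category.assoc, e1, h1]
          rw [← e1, Category.assoc, Iso.inv_hom_id_assoc]
        have w2 : (e.inv ≫ γ' ≫ e.hom) ≫ pr2.left = pr2.left := by
          simp only [Category.assoc, e2, h2]
          rw [← e2, Iso.inv_hom_id_assoc]
        let γO : XT ⟶ XT := Over.homMk (e.inv ≫ γ' ≫ e.hom) (by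
          rw [← Over.w pr2, ← Category.assoc, w2])
        have h3 := hs g γO (Over.OverMorphism.ext w1) (Over.OverMorphism.ext w2)
        change (e.inv ≫ γ' ≫ e.hom) ≫ s = s at h3
        rw [← cancel_epi e.inv]
        simpa using h3
      refine ⟨a, ?_⟩
      rw [← cancel_epi e.hom, ← Category.assoc, e2, ha]
  refine ⟨fun g => ConstAct.act_quot R A G g, ?_, surjective_quot, fun Ω _ _ ξ ξ' h => ?_,
    fun {T} _ t _ {XT} pr1 pr2 sq {Z} _ a b h => Over.OverMorphism.ext
      ((key t pr1 pr2 sq).1 _ _ _ (congrArg CommaMorphism.left h)),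
    fun {T} _ t _ {XT} pr1 pr2 sq {Z} _ s hs => ?_⟩
  · have : Module.Finite B A := finite_inv
    exact IsFinite.SpecMap_iff _ |>.2 (RingHom.finite_algebraMap.2 this)
  · obtain ⟨f₁, rfl⟩ : ∃ f : CommRingCat.of A ⟶ CommRingCat.of Ω, Spec.map f = ξ := ⟨_, Spec.map_preimage _⟩
    obtain ⟨f₂, rfl⟩ : ∃ f : CommRingCat.of A ⟶ CommRingCat.of Ω, Spec.map f = ξ' := ⟨_, Spec.map_preimage _⟩
    change Spec.map f₁ ≫ Spec.map _ = Spec.map f₂ ≫ Spec.map _ at h
    rw [← Spec.map_comp, ← Spec.map_comp] at h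
    have h' := Spec.map_injective h
    obtain ⟨g, hg⟩ := Groth.Agent.S18899.result (G := G) f₁.hom f₂.hom fun a ha =>
      congrArg (fun m : CommRingCat.of B ⟶ CommRingCat.of Ω => m.hom ⟨a, ha⟩) h'
    refine ⟨g, ?_⟩
    rw [ConstAct.act_left]
    change Spec.map f₁ ≫ Spec.map _ = _
    rw [← Spec.map_comp]
    congr 1
    ext a
    exact (hg a).symm
  · obtain ⟨a, ha⟩ := (key t pr1 pr2 sq).2 Z.left s.left fun g γ' h1 h2 =>
      congrArg CommaMorphism.left (hs g γ' h1 h2)
    have hw : a ≫ Z.hom = T.hom := (key t pr1 pr2 sq).1 _ _ _ (by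
      rw [reassoc_of% ha, Over.w s, Over.w pr2])
    exact ⟨Over.homMk a hw, Over.OverMorphism.ext ha⟩

end Groth.Agent.Lib.ConstQuot
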