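import Groth.Agent.Lib.ConstQuot.Ring
import Groth.Agent.Lib.QuotSt.CatQuot
import Groth.Agent.S16721
import Groth.Prelude.Def_ConstAct2

/-!
# The coarse moduli space of the quotient stack of a finite group
-/

set_option autoImplicit false
set_option backward.isDefEq.respectTransparency false
set_option backward.isDefEq.respectTransparency.types false

universe u

open CategoryTheory CategoryTheory.Limits AlgebraicGeometry MonoidalCategory CartesianMonoidalCategory

noncomputable section

namespace Groth.Agent.Lib.ConstQuot.Stack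

open AlgSp (Sp yon IsAlgSpace)

variable {R A : Type u} [CommRing R] [CommRing A] [Algebra R A] {G : Type u} [Group G] [Fintype G]
  [DecidableEq G]

instance isAffineHom_GR : IsAffineHom (ConstAct.GR R G).hom :=
  inferInstanceAs (IsAffineHom (Spec.map (CommRingCat.ofHom (algebraMap R (ConstGrp.F R G)))))

instance flat_GR : Flat (ConstAct.GR R G).hom := by
  change Flat (Spec.map (CommRingCat.ofHom (algebraMap R (ConstGrp.F R G))))
  rw [HasRingHomProperty.Spec_iff (P := @Flat)]
  exact RingHom.flat_algebraMap_iff.2 (inferInstanceAs (Module.Flat R (G → R)))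

instance lfp_GR : LocallyOfFinitePresentation (ConstAct.GR R G).hom := by
  change LocallyOfFinitePresentation (Spec.map (CommRingCat.ofHom (algebraMap R (ConstGrp.F R G))))
  rw [HasRingHomProperty.Spec_iff (P := @LocallyOfFinitePresentation)]
  have : Module.FinitePresentation R (ConstGrp.F R G) :=
    inferInstanceAs (Module.FinitePresentation R (G → R))
  exact RingHom.finitePresentation_algebraMap.2 inferInstance

variable [MulSemiringAction G A] [SMulCommClass G R A]

variable (R A) in
/-- The constant point `g` over `Spec A`. -/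
def cA (g : G) : ConstAct.specA R A ⟶ ConstAct.GR R G :=
  CoactBr.pt (ConstAct.constPt R G (K := A) g)

theorem lift_cA (g : G) :
    lift (cA R A g) (𝟙 (ConstAct.specA R A)) ≫ (ConstAct.gaction R A G).act = ConstAct.act R A G g⁻¹ := by
  have h := ConstAct.gaction_constPt R A G g (AlgHom.id R A)
  rw [CoactBr.pt_id] at h
  exact h.trans (Category.id_comp _)

theorem act_comp_eq {N : Sp (Spec (CommRingCat.of R))} (ψ : (yon _).obj (ConstAct.specA R A) ⟶ N)
    (h : (yon _).map (ConstAct.gaction R A G).act ≫ ψ =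
      (yon _).map (snd (ConstAct.GR R G) (ConstAct.specA R A)) ≫ ψ) (g : G) :
    (yon _).map (ConstAct.act R A G g) ≫ ψ = ψ := by
  have e := congrArg ((yon _).map (lift (cA R A g⁻¹) (𝟙 _)) ≫ ·) h
  simp only [← Category.assoc, ← Functor.map_comp] at e
  erw [lift_cA, inv_inv, lift_snd, CategoryTheory.Functor.map_id, Category.id_comp] at e
  exact e

theorem orbit_points [Algebra.FiniteType R A] (Ω : Type u) [Field Ω] [IsAlgClosed Ω]
    (t : Spec (CommRingCat.of Ω) ⟶ Spec (CommRingCat.of R)) :
    (∀ y : Over.mk t ⟶ ConstAct.specInv R A G, ∃ x : Over.mk t ⟶ ConstAct.specA R A,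
      x ≫ ConstAct.quot R A G = y) ∧
    ∀ x x' : Over.mk t ⟶ ConstAct.specA R A, x ≫ ConstAct.quot R A G = x' ≫ ConstAct.quot R A G →
      ∃ g : Over.mk t ⟶ ConstAct.GR R G, lift g x' ≫ (ConstAct.gaction R A G).act = x := by
  have hq := isQuot_quot (R := R) (A := A) (G := G)
  have := hq.finite
  have := hq.surj
  refine ⟨fun y => ?_, fun x x' h => ?_⟩
  · let yl : Spec (CommRingCat.of Ω) ⟶ (ConstAct.specInv R A G).left := y.left
    obtain ⟨w, hw⟩ := (ConstAct.quot R A G).left.surjective (yl.base default)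
    obtain ⟨ξ, hξ, -⟩ := EtShriek50.Piece.exists_pt_over (ConstAct.quot R A G).left yl w hw
    refine ⟨Over.homMk ξ ?_, Over.OverMorphism.ext hξ⟩
    rw [← Over.w (ConstAct.quot R A G), ← Category.assoc, hξ]
    exact Over.w y
  · obtain ⟨g, hg⟩ := hq.orbit Ω x'.left x.left (congrArg CommaMorphism.left h).symm
    refine ⟨x' ≫ cA R A g⁻¹, ?_⟩
    have e : lift (x' ≫ cA R A g⁻¹) x' = x' ≫ lift (cA R A g⁻¹) (𝟙 _) := by
      rw [comp_lift, Category.comp_id]
    rw [e, Category.assoc, lift_cA, inv_inv]
    exact Over.OverMorphism.ext hg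

/-- `[Spec A/G] ⟶ Spec A^G` is a coarse moduli space. -/
theorem isCoarseModuli [Algebra.FiniteType R A]
    (π : ConstAct.quotSt R A G Scheme.fppfPrecoverage ⥤ᵇ AlgSt.ofSch (ConstAct.specInv R A G))
    (hπ : BasedFunctor.comp
        (AlgSt.quotMap Scheme.fppfPrecoverage (ConstAct.GR R G) (ConstAct.gaction R A G)) π =
      AlgSt.ofSpMap ((yon (Spec (CommRingCat.of R))).map (ConstAct.quot R A G))) :
    AlgSt.IsCoarseModuli π := by
  refine Groth.Agent.S16721.result (Spec (CommRingCat.of R)) (ConstAct.GR R G) (ConstAct.X R A)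
    (ConstAct.specInv R A G) (ConstAct.gaction R A G) (ConstAct.quot R A G) ?_
    (fun Ω _ _ t => orbit_points Ω t) (fun N ψ hψ => ?_) π ⟨eqToIso hπ⟩
  · refine (yon _).map_injective ?_
    rw [Functor.map_comp, Functor.map_comp]
    exact QuotSt.invariant_of_factor π hπ
  · have : IsAffine (ConstAct.specInv R A G).left :=
      inferInstanceAs (IsAffine (Spec (CommRingCat.of ↥(ConstAct.inv R A G))))
    exact existsUnique_desc isQuot_quot N.property ψ (act_comp_eq ψ hψ)

/-- Algebra points: orbits are the fibres over the invariants. -/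
theorem algHom_points [Algebra.FiniteType R A] (Ω : Type u) [Field Ω] [IsAlgClosed Ω] [Algebra R Ω] :
    (∀ y : ↥(ConstAct.inv R A G) →ₐ[R] Ω, ∃ x : A →ₐ[R] Ω, x.comp (ConstAct.inv R A G).val = y) ∧
    ∀ x x' : A →ₐ[R] Ω, x.comp (ConstAct.inv R A G).val = x'.comp (ConstAct.inv R A G).val →
      ∃ g : G, x' = x.comp (MulSemiringAction.toAlgEquiv R A g : A →ₐ[R] A) := by
  have hq := isQuot_quot (R := R) (A := A) (G := G)
  have := hq.finite
  have := hq.surj
  refine ⟨fun y => ?_, fun x x' h => ?_⟩
  · let η := Spec.map (CommRingCat.ofHom y.toRingHom)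
    obtain ⟨w, hw⟩ := (ConstAct.quot R A G).left.surjective (η.base default)
    obtain ⟨ξ, hξ, -⟩ := EtShriek50.Piece.exists_pt_over (ConstAct.quot R A G).left η w hw
    obtain ⟨f, rfl⟩ : ∃ f : CommRingCat.of A ⟶ CommRingCat.of Ω, Spec.map f = ξ := ⟨_, Spec.map_preimage _⟩
    change Spec.map f ≫ Spec.map _ = Spec.map _ at hξ
    rw [← Spec.map_comp] at hξ
    have e : ∀ b : ↥(ConstAct.inv R A G), f.hom (b : A) = y b := fun b =>
      congrArg (fun m : CommRingCat.of ↥(ConstAct.inv R A G) ⟶ CommRingCat.of Ω => m.hom b)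
        (Spec.map_injective hξ)
    exact ⟨{ f.hom with commutes' := fun r => (e (algebraMap R _ r)).trans (y.commutes r) },
      AlgHom.ext e⟩
  · obtain ⟨g, hg⟩ := Groth.Agent.S18899.result (G := G) x.toRingHom x'.toRingHom fun a ha =>
      DFunLike.congr_fun h ⟨a, ha⟩
    exact ⟨g, AlgHom.ext hg⟩

end Groth.Agent.Lib.ConstQuot.Stack
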