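import Groth.Agent.H14.QuotGood.Main
import Groth.Agent.Lib.ConstQuot.Stack

/-!
# Functions on the quotient stack of a finite group
-/

set_option autoImplicit false
set_option backward.isDefEq.respectTransparency false
set_option backward.isDefEq.respectTransparency.types false
set_option linter.style.haveILetI false

universe u

open CategoryTheory MonoidalCategory CartesianMonoidalCategory AlgebraicGeometry Opposite
open StMod (sch bmap fibCat fibFst etaOf baseOver)
open AlgSt (QuotObj QuotSt ofSch ofSpMap quotMap)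
open AlgSp (yon)
open Groth.Agent.H14.QuotGood

noncomputable section

namespace Groth.Agent.Lib.ConstQuot.UnitIso

/-- Functions on a quotient stack are functions on an affine scheme whose functions are the invariant ones. -/
theorem unitIsIso {S : Scheme.{u}} {G X Y : Over S} [GrpObj G] [IsAffineHom G.hom] [Flat G.hom]
    [LocallyOfFinitePresentation G.hom] [IsAffine X.left] [IsAffine Y.left] (aX : AlgGrp.Action G X) (q : X ⟶ Y)
    (hinj : Function.Injective q.left.appTop.hom)
    (hinv : ∀ z : Γ(X.left, ⊤), (snd G X).left.appTop z = aX.act.left.appTop z →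
      ∃ a, q.left.appTop a = z)
    (π : QuotSt Scheme.fppfPrecoverage G aX ⥤ᵇ ofSch Y)
    (hπ : BasedFunctor.comp (quotMap Scheme.fppfPrecoverage G aX) π = ofSpMap ((yon S).map q)) :
    StMod.UnitIsIso π := by
  have hX : FibCat.IsFibGrpd (QuotSt Scheme.fppfPrecoverage G aX).p := (Lib.QuotSt.isStack le_rfl).1
  have hY : FibCat.IsFibGrpd (ofSch Y).p :=
    (Lib.AlgStack.IsAlg.isAlgStack_ofSp ((AlgSp.ofScheme _).obj Y)).isStack.1
  let C₀ := quotChart aX Scheme.fppfPrecoverage_le_fpqcPrecoverage
  let C := fibChart π C₀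
  have hb : baseOver π C.x.left C.x.hom = q := by
    refine baseOver_topObj π (x₀ Scheme.fppfPrecoverage aX) _ ?_
    refine (congrArg (fun k : ofSch X ⥤ᵇ ofSch Y => k.obj ⟨X, ⟨𝟙 _⟩⟩) hπ).trans ?_
    show (⟨X, ⟨𝟙 X ≫ q⟩⟩ : (ofSch Y).obj) = _
    exact congrArg (fun k : X ⟶ Y => (⟨X, ⟨k⟩⟩ : (ofSch Y).obj)) (Category.id_comp _)
  have hinv' : ∀ z : Γ(sch (QuotSt Scheme.fppfPrecoverage G aX) C.x.left, ⊤),
      (bmap _ C.p.left).appTop z = (bmap _ C.q.left).appTop z →
        ∃ a, (baseOver π C.x.left C.x.hom).left.appTop a = z := by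
    intro z hz
    rw [hb]
    exact hinv z hz
  have hinj' : Function.Injective (baseOver π C.x.left C.x.hom).left.appTop.hom := by
    rw [hb]; exact hinj
  intro E
  refine H14.CohDesc.unitBijective_of_affine π E hX fun E hE => ?_
  obtain ⟨g, hg⟩ := (yon S).map_surjective E.obj.hom
  haveI : IsAffine (sch (ofSch Y) (etaOf E)) := hE
  haveI : IsAffine (sch (ofSch Y) (topObj Y)) := ‹IsAffine Y.left›
  haveI : Flat (bmap (ofSch Y) (toTop (Y := Y) (etaOf E))) := by
    have e : (etaOf E).sec.down = g := by
      show ((AlgSp.J _).uliftYonedaEquiv E.obj.hom).down = g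
      rw [← hg]
      exact Category.id_comp g
    have : Etale (etaOf E).sec.down.left := by
      rw [e]
      exact (AlgSp.repWith_yon_map_iff _ _).1 (by rw [hg]; exact E.property)
    show Flat (etaOf E).sec.down.left
    infer_instance
  exact ⟨unitSect_injective hY C (toTop (etaOf E)) hX hinj', unitSect_surjective hY C (toTop (etaOf E)) hX hinv'⟩

open CoactBr in
/-- Functions on `[Spec A/G]` are the invariants. -/
theorem unitIsIso_quotSt {R A : Type u} [CommRing R] [CommRing A] [Algebra R A] {G : Type u} [Group G] [Fintype G]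
    [DecidableEq G] [MulSemiringAction G A] [SMulCommClass G R A]
    (π : ConstAct.quotSt R A G Scheme.fppfPrecoverage ⥤ᵇ AlgSt.ofSch (ConstAct.specInv R A G))
    (hπ : BasedFunctor.comp
        (AlgSt.quotMap Scheme.fppfPrecoverage (ConstAct.GR R G) (ConstAct.gaction R A G)) π =
      AlgSt.ofSpMap ((yon (Spec (CommRingCat.of R))).map (ConstAct.quot R A G))) :
    StMod.UnitIsIso π := by
  haveI : IsAffine (ConstAct.specA R A).left := inferInstanceAs (IsAffine (Spec (CommRingCat.of A)))
  haveI : IsAffine (ConstAct.X R A).left := inferInstanceAs (IsAffine (Spec (CommRingCat.of A)))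
  haveI : IsAffine (ConstAct.specInv R A G).left :=
    inferInstanceAs (IsAffine (Spec (CommRingCat.of ↥(ConstAct.inv R A G))))
  haveI : IsAffine (sp R ↥(ConstAct.inv R A G)).left :=
    inferInstanceAs (IsAffine (Spec (CommRingCat.of ↥(ConstAct.inv R A G))))
  have hq : ∀ a, gam R A ((pt (ConstAct.inv R A G).val).left.appTop.hom a) =
      ((gam R ↥(ConstAct.inv R A G) a : ↥(ConstAct.inv R A G)) : A) := fun a => gam_pt _ a
  refine unitIsIso (ConstAct.gaction R A G) (pt (ConstAct.inv R A G).val) (fun a a' h => ?_) (fun z hz => ?_) π hπ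
  · have h' := congrArg (gam R A) h
    rw [hq, hq] at h'
    exact (gam R _).injective (Subtype.ext h')
  · refine ⟨(gam R _).symm ⟨gam R A z, fun g => ?_⟩, (gam R A).injective ((hq _).trans (by rw [RingEquiv.apply_symm_apply]))⟩
    let l : ConstAct.specA R A ⟶ ConstAct.GR R G ⊗ ConstAct.X R A := lift (Stack.cA R A g⁻¹) (𝟙 _)
    have key : ∀ m : ConstAct.GR R G ⊗ ConstAct.X R A ⟶ ConstAct.X R A,
        (l ≫ m).left.appTop.hom z = l.left.appTop.hom (m.left.appTop.hom z) := fun m => by
      rw [Over.comp_left, Scheme.Hom.comp_appTop]; rfl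
    have e : (CommaMorphism.left (𝟙 (ConstAct.specA R A))).appTop.hom z = (ConstAct.act R A G g).left.appTop.hom z := by
      have e1 : l ≫ (ConstAct.gaction R A G).act = ConstAct.act R A G g :=
        (Stack.lift_cA g⁻¹).trans (by rw [inv_inv])
      have e2 : l ≫ snd (ConstAct.GR R G) (ConstAct.X R A) = 𝟙 (ConstAct.specA R A) := lift_snd _ _
      rw [← e1, ← e2]
      exact (key _).trans ((congrArg l.left.appTop.hom hz).trans (key _).symm)
    have hact : pt (MulSemiringAction.toAlgEquiv R A g : A →ₐ[R] A) = ConstAct.act R A G g := by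
      rw [← AlgHom.id_comp (MulSemiringAction.toAlgEquiv R A g : A →ₐ[R] A), ConstAct.pt_comp_toAlgEquiv, pt_id]
      exact Category.id_comp _
    rw [← hact] at e
    refine (gam_pt _ z).symm.trans ((congrArg (gam R A) e.symm).trans ?_)
    exact (congrArg (fun k => gam R A (k.hom z)) (Scheme.Hom.id_appTop (X := (ConstAct.specA R A).left))).trans rfl

end Groth.Agent.Lib.ConstQuot.UnitIso
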