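import Groth.Agent.Lib.ConstQuot.Stack
import Groth.Agent.Lib.ConstQuot.BaseChange
import Groth.Agent.Lib.ArtinAtlas.StackAtlas
import Groth.Agent.H14.Chart.UnivInj
import Groth.Agent.H14.Chart.UnivTop
import Groth.Agent.Lib.AlgSpMor.Proper
import Groth.Agent.Lib.AlgStack.Descend
import Groth.Agent.Lib.AlgStack.SliceEtale

/-!
# `[Spec A/G] ⟶ Spec A^G` is a universal homeomorphism
-/

set_option autoImplicit false
set_option backward.isDefEq.respectTransparency false
set_option backward.isDefEq.respectTransparency.types false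

universe u

open CategoryTheory CategoryTheory.Limits AlgebraicGeometry MonoidalCategory CartesianMonoidalCategory Opposite
open AlgSt (QuotObj QuotSt quotMap ofSp ofSpMap RepByAlgSpWith RepByAlgSp1 IsAlgStack)
open AlgSp (Sp yon IsAlgSpace)
open FibCat (fp fpFst fpSnd diag)
open Groth.Agent.Lib Groth.Agent.Lib.AlgStack
open Groth.Agent.H14.Chart

noncomputable section

namespace Groth.Agent.Lib.ConstQuot.UnivHomeo

variable {S : Scheme.{u}} {G X Y : Over S} [GrpObj G] [IsAffineHom G.hom] [Flat G.hom]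
  [LocallyOfFinitePresentation G.hom] {aX : AlgGrp.Action G X} {q : X ⟶ Y}

theorem surjective_quotMap : AlgSt.IsSurjective (quotMap Scheme.fppfPrecoverage G aX) := fun p => by
  have h := H14.Chart.Points.isSurjective_of_rep (Lib.QuotSt.isStack le_rfl).1
    (Lib.QuotSt.repByAlgSpWith_atlas (K := Scheme.fppfPrecoverage) (aX := aX) fun y =>
      Lib.QuotSt.isSurjectiveMor_yon_map _
        (Lib.QuotSt.surjective_proj Scheme.fppfPrecoverage_le_fpqcPrecoverage y))
  obtain ⟨x, hx⟩ := h p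
  exact ⟨_, (Basic.map_comp _ _ x).symm.trans hx⟩

/-- A functor on a quotient stack through which a universally closed surjection factors, bijective on
geometric points, is a universal homeomorphism. -/
theorem isUnivHomeo (π : QuotSt Scheme.fppfPrecoverage G aX ⥤ᵇ AlgSt.ofSch Y)
    (hπ : BasedFunctor.comp (quotMap Scheme.fppfPrecoverage G aX) π = ofSpMap ((yon S).map q))
    [UniversallyClosed q.left] [Surjective q.left] (hb : AlgSt.GeomPtBij π) :
    AlgSt.IsUnivHomeo Scheme.fppfPrecoverage π := by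
  have h𝒳 := Lib.ArtinAtlas.isAlgStack_quot aX
  have h𝒴 : IsAlgStack Scheme.fppfPrecoverage (AlgSt.ofSch Y) :=
    IsAlg.isAlgStack_ofSp ((AlgSp.ofScheme _).obj Y)
  have hX' : IsAlgStack Scheme.fppfPrecoverage (AlgSt.ofSch X) :=
    IsAlg.isAlgStack_ofSp ((AlgSp.ofScheme _).obj X)
  let qm := quotMap Scheme.fppfPrecoverage G aX
  have huc : AlgSp.IsUnivClosedMor ((yon S).map q) :=
    AlgSpMor.Proper.isUnivClosedMor_of_repWith ((AlgSp.repWith_yon_map_iff _ _).2 ‹_›)
  have hrep : RepByAlgSpWith AlgSp.IsUnivClosedMor (ofSpMap ((yon S).map q)) :=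
    Descend.repByAlgSpWith_ofSpMap (fun _ _ _ _ _ _ _ _ _ _ _ _ sq h => AlgSpMor.Proper.univSp_baseChange sq h)
      (IsAlgSpace.yon_obj X) (IsAlgSpace.yon_obj Y) huc
  have hclosed := (UnivTop.univ_iff UnivTop.homeoInv_isClosedMap Lib.AlgSpMor.Topo.cartLocal_isClosedMap hX' h𝒴
    (ofSpMap ((yon S).map q)) (Rep.repByAlgSp1_of_repByAlgSpWith hrep)).1 hrep
  have hsurjq : AlgSt.IsSurjective (ofSpMap ((yon S).map q)) :=
    H14.Chart.Points.isSurjective_of_rep h𝒴.isStack.1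
      (Descend.repByAlgSpWith_ofSpMap (P := AlgSp.IsSurjectiveMor)
        SliceEtale.stableBC_surjective
        (IsAlgSpace.yon_obj X) (IsAlgSpace.yon_obj Y) (Lib.QuotSt.isSurjectiveMor_yon_map q ‹_›))
  have hsurjπ : AlgSt.IsSurjective π := fun p => by
    obtain ⟨x, hx⟩ := hsurjq p
    refine ⟨AlgSt.Points.map qm x, (Basic.map_comp _ _ x).symm.trans ?_⟩
    rw [hπ]; exact hx
  have hdiag : AlgSt.IsSurjective (diag π) := by
    refine (UnivInj.geomPts_iff h𝒳 h𝒴 π).2 fun k _ _ s a₁ a₂ h₁ h₂ β hβ => ?_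
    obtain ⟨e⟩ := (hb k s).2 ⟨a₁, h₁⟩ ⟨a₂, h₂⟩ (by
      have h := Lib.QuotSt.map_res β ((π.w_obj a₁).trans h₁) ((π.w_obj a₂).trans h₂) (𝟙 _)
        (IsHomLift.fac' (AlgSt.ofSch Y).p (𝟙 (Over.mk s)) β)
      exact h.symm.trans (BaseChange.map_id_op _ _))
    have he : (QuotSt Scheme.fppfPrecoverage G aX).p.IsHomLift (𝟙 (Over.mk s)) e.hom.1 := e.hom.2
    have := BasedFunctor.preserves_isHomLift π (𝟙 (Over.mk s)) e.hom.1
    exact ⟨e.hom.1, he, Stk.EltObj.hom_ext
      ((IsHomLift.fac' (AlgSt.ofSch Y).p (𝟙 (Over.mk s)) (π.map e.hom.1)).trans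
        (IsHomLift.fac' (AlgSt.ofSch Y).p (𝟙 (Over.mk s)) β).symm)⟩
  intro 𝒵 h𝒵 g
  have hP := Basic.isAlgStack_fp h𝒴 h𝒵 h𝒳 g π
  let A := fpFst (fpSnd g π) qm
  have hA : AlgSt.IsSurjective A :=
    Basic.surjective_fpFst hX'.isStack.1 h𝒳.isStack.1 hP.isStack.1 _ surjective_quotMap
  have hcl : IsClosedMap (AlgSt.Points.map (fpFst g π)) := fun C hC => by
    have hfull : IsClosedMap (AlgSt.Points.map (fpFst g (BasedFunctor.comp qm π))) := by
      rw [hπ]; exact hclosed 𝒵 h𝒵 g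
    have he := UnivTop.isHomeomorph_map_of_isEquivOver (Basic.isAlgStack_fp h𝒳 hP hX' (fpSnd g π) qm)
      (Basic.isAlgStack_fp h𝒴 h𝒵 hX' g (BasedFunctor.comp qm π)) (Rep.isEquivOver_pasteComp g π qm)
    have e : AlgSt.Points.map (fpFst g π) '' C = AlgSt.Points.map (fpFst g (BasedFunctor.comp qm π)) ''
        (AlgSt.Points.map (Rep.pasteComp g π qm) '' (AlgSt.Points.map A ⁻¹' C)) := by
      have hf : ∀ r, AlgSt.Points.map (fpFst g (BasedFunctor.comp qm π))
          (AlgSt.Points.map (Rep.pasteComp g π qm) r) =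
            AlgSt.Points.map (fpFst g π) (AlgSt.Points.map A r) := fun r => by
        rw [← Basic.map_comp, Rep.pasteComp_fst, Basic.map_comp]
      ext z
      constructor
      · rintro ⟨c, hc, rfl⟩
        obtain ⟨r, rfl⟩ := hA c
        exact ⟨_, ⟨r, hc, rfl⟩, hf r⟩
      · rintro ⟨_, ⟨r, hr, rfl⟩, rfl⟩
        exact ⟨_, hr, (hf r).symm⟩
    rw [e]
    exact hfull _ (he.isClosedMap _ (hC.preimage (Basic.continuous_map hP A)))
  refine isHomeomorph_iff_continuous_isClosedMap_bijective.2 ⟨Basic.continuous_map h𝒵 _, hcl,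
    (UnivInj.surjective_diag_iff h𝒳 h𝒴 π).2 hdiag 𝒵 h𝒵 g,
    Basic.surjective_fpFst h𝒳.isStack.1 h𝒴.isStack.1 h𝒵.isStack.1 g hsurjπ⟩

end Groth.Agent.Lib.ConstQuot.UnivHomeo
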